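import Mathlib
import Groth.Prelude.Def_Cyc
import Groth.Agent.Lib.Lead.SecOrd0
import Groth.Agent.Lib.Helper7.CycLim.Surj

set_option linter.style.haveILetI false
set_option linter.unusedVariables false
set_option linter.unusedSectionVars false
set_option autoImplicit false
set_option backward.isDefEq.respectTransparency.types false
set_option synthInstance.maxHeartbeats 400000
set_option maxHeartbeats 1600000

namespace Groth.Agent.Helper7.DivFin

open CategoryTheory CategoryTheory.Limits AlgebraicGeometry IsLocalRing TopologicalSpace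
open Groth.Agent.Lead.SecOrd Groth.Agent.Helper7.CycLim

universe u

/-! helper7: helper7: principal divisors Cyc.divFun have locally finite support; locally finite families sum to cycles; transport of orders along immersions -/

section Units

variable {X : Scheme.{u}}

theorem ordAt_specMap_unit (x ξ : X) (h : ξ ⤳ x) (a : X.presheaf.stalk x) (ha : IsUnit a) :
    Cyc.ordAt x ξ h (Cyc.specMap x ξ h a) = 0 := by
  have hu : IsUnit (Ideal.Quotient.mk (RingHom.ker (Cyc.specMap x ξ h)) a) := ha.map _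
  obtain ⟨u, hu⟩ := hu
  have h1 := ordFrac_unit (Cyc.LocQuot x ξ h) (X.residueField ξ) u
  rw [hu] at h1
  exact h1

theorem specMap_germ (x ξ : X) (h : ξ ⤳ x) (V : X.Opens) (hx : x ∈ V) (s : Γ(X, V)) :
    Cyc.specMap x ξ h ((X.presheaf.germ V x hx).hom s) =
      (X.residue ξ).hom ((X.presheaf.germ V ξ (h.mem_open V.isOpen hx)).hom s) := by
  unfold Cyc.specMap
  rw [← TopCat.Presheaf.germ_stalkSpecializes X.presheaf hx h]
  rfl

theorem ordAt_eq_zero_of_units (x ξ : X) (h : ξ ⤳ x) (f : X.residueField ξ) (hf : f ≠ 0)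
    (a s : X.presheaf.stalk x) (ha : IsUnit a) (hs : IsUnit s)
    (hfs : f * Cyc.specMap x ξ h s = Cyc.specMap x ξ h a) : Cyc.ordAt x ξ h f = 0 := by
  have hs0 : Cyc.specMap x ξ h s ≠ 0 := (hs.map (Cyc.specMap x ξ h)).ne_zero
  have h1 := ordFrac_mul (Cyc.LocQuot x ξ h) (X.residueField ξ) hf hs0
  have h2 := ordAt_specMap_unit x ξ h a ha
  have h3 := ordAt_specMap_unit x ξ h s hs
  unfold Cyc.ordAt at h2 h3 ⊢
  rw [hfs, h2, h3, add_zero] at h1
  exact h1.symm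

end Units

section Affine

variable {X : Scheme.{u}} {V : X.Opens} (hV : IsAffineOpen V)

theorem primeIdealOf_le_iff (x y : V) :
    (hV.primeIdealOf x).asIdeal ≤ (hV.primeIdealOf y).asIdeal ↔ (x : X) ⤳ (y : X) := by
  have h1 := hV.fromSpec.isOpenEmbedding.isInducing.specializes_iff
    (x := hV.primeIdealOf x) (y := hV.primeIdealOf y)
  rw [hV.fromSpec_primeIdealOf, hV.fromSpec_primeIdealOf] at h1
  rw [h1]
  exact PrimeSpectrum.le_iff_specializes _ _

theorem fromSpec_mem (Q : PrimeSpectrum Γ(X, V)) : hV.fromSpec Q ∈ V := by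
  have h1 := hV.range_fromSpec
  have h2 : hV.fromSpec Q ∈ Set.range hV.fromSpec := ⟨Q, rfl⟩
  rw [h1] at h2
  exact h2

theorem primeIdealOf_fromSpec (Q : PrimeSpectrum Γ(X, V)) (hQ : hV.fromSpec Q ∈ V) :
    hV.primeIdealOf ⟨hV.fromSpec Q, hQ⟩ = Q :=
  hV.fromSpec.isOpenEmbedding.injective (hV.fromSpec_primeIdealOf ⟨hV.fromSpec Q, hQ⟩)

theorem residue_germ_eq_zero_iff (ξ : V) (t : Γ(X, V)) :
    (X.residue ξ.1).hom ((X.presheaf.germ V ξ.1 ξ.2).hom t) = 0 ↔
      t ∈ (hV.primeIdealOf ξ).asIdeal := by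
  rw [mem_primeIdealOf_iff hV ξ t]
  exact IsLocalRing.residue_eq_zero_iff _

theorem exists_frac (ξ : V) (f : X.residueField ξ.1) (hf : f ≠ 0) :
    ∃ a s : Γ(X, V), a ∉ (hV.primeIdealOf ξ).asIdeal ∧ s ∉ (hV.primeIdealOf ξ).asIdeal ∧
      f * (X.residue ξ.1).hom ((X.presheaf.germ V ξ.1 ξ.2).hom s) =
        (X.residue ξ.1).hom ((X.presheaf.germ V ξ.1 ξ.2).hom a) := by
  haveI hloc := hV.isLocalization_stalk ξ
  obtain ⟨g, hg⟩ : ∃ g, (X.residue ξ.1).hom g = f := X.residue_surjective ξ.1 f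
  obtain ⟨⟨a, s⟩, has⟩ := IsLocalization.surj (hV.primeIdealOf ξ).asIdeal.primeCompl g
  have hs : (s : Γ(X, V)) ∉ (hV.primeIdealOf ξ).asIdeal := s.2
  have hev : f * (X.residue ξ.1).hom ((X.presheaf.germ V ξ.1 ξ.2).hom s) =
      (X.residue ξ.1).hom ((X.presheaf.germ V ξ.1 ξ.2).hom a) := by
    have h1 := congrArg (X.residue ξ.1).hom has
    rw [map_mul, hg] at h1
    exact h1
  refine ⟨a, s, ?_, hs, hev⟩
  intro ha
  rw [← residue_germ_eq_zero_iff hV ξ a] at ha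
  rw [ha] at hev
  have hs' := (residue_germ_eq_zero_iff hV ξ (s : Γ(X, V))).not.mpr hs
  exact (mul_ne_zero hf hs') hev

theorem mem_minimalPrimes_of_delta (δ : X → ℤ) (hδ : Cyc.IsDimFun X δ) (ξ x : V)
    (h : (ξ : X) ⤳ (x : X)) (hd : δ x + 1 = δ ξ) (t : Γ(X, V))
    (ht : t ∉ (hV.primeIdealOf ξ).asIdeal) (htx : t ∈ (hV.primeIdealOf x).asIdeal) :
    (hV.primeIdealOf x).asIdeal ∈
      ((hV.primeIdealOf ξ).asIdeal ⊔ Ideal.span {t}).minimalPrimes := by
  have hle : (hV.primeIdealOf ξ).asIdeal ⊔ Ideal.span {t} ≤ (hV.primeIdealOf x).asIdeal := by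
    refine sup_le ((primeIdealOf_le_iff hV ξ x).mpr h) ?_
    rw [Ideal.span_le, Set.singleton_subset_iff]
    exact htx
  obtain ⟨Q, hQ, hQx⟩ := Ideal.exists_minimalPrimes_le hle
  haveI hQp : Q.IsPrime := hQ.1.1
  have hyV := fromSpec_mem hV ⟨Q, hQp⟩
  have hPy : hV.primeIdealOf ⟨hV.fromSpec ⟨Q, hQp⟩, hyV⟩ = ⟨Q, hQp⟩ :=
    primeIdealOf_fromSpec hV ⟨Q, hQp⟩ hyV
  have hξQ : (hV.primeIdealOf ξ).asIdeal ≤ Q := le_trans le_sup_left hQ.1.2
  have htQ : t ∈ Q := hQ.1.2 (Ideal.mem_sup_right (Ideal.subset_span rfl))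
  have h1 : (ξ : X) ⤳ hV.fromSpec ⟨Q, hQp⟩ := by
    rw [← primeIdealOf_le_iff hV ξ ⟨hV.fromSpec ⟨Q, hQp⟩, hyV⟩, hPy]
    exact hξQ
  have h2 : hV.fromSpec ⟨Q, hQp⟩ ⤳ (x : X) := by
    rw [← primeIdealOf_le_iff hV ⟨hV.fromSpec ⟨Q, hQp⟩, hyV⟩ x, hPy]
    exact hQx
  have hne : (ξ : X) ≠ hV.fromSpec ⟨Q, hQp⟩ := by
    intro he
    have he' : ξ = ⟨hV.fromSpec ⟨Q, hQp⟩, hyV⟩ := Subtype.ext he
    rw [he', hPy] at ht
    exact ht htQ
  have h3 := (hδ _ _ h1 hne).1
  by_cases hyx : hV.fromSpec ⟨Q, hQp⟩ = (x : X)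
  · have he' : (⟨hV.fromSpec ⟨Q, hQp⟩, hyV⟩ : V) = x := Subtype.ext hyx
    rw [← he', hPy]
    exact hQ
  · have h4 := (hδ _ _ h2 hyx).1
    omega

include hV in
theorem finite_support_divFun_inter (δ : X → ℤ) (hX : Cyc.IsSetup X δ) (ξ : X)
    (f : X.residueField ξ) (hf : f ≠ 0) :
    ((V : Set X) ∩ Function.support (Cyc.divFun δ ξ f)).Finite := by
  haveI := hX.1
  by_cases hξV : ξ ∈ V
  swap
  · have hem : (V : Set X) ∩ Function.support (Cyc.divFun δ ξ f) = ∅ := by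
      rw [Set.eq_empty_iff_forall_notMem]
      rintro x ⟨hxV, hx⟩
      rw [Function.mem_support] at hx
      apply hx
      unfold Cyc.divFun
      rw [dif_neg]
      rintro ⟨hsp, -⟩
      exact hξV (hsp.mem_open V.isOpen hxV)
    rw [hem]
    exact Set.finite_empty
  haveI : IsNoetherianRing Γ(X, V) := IsLocallyNoetherian.component_noetherian ⟨V, hV⟩
  obtain ⟨a, s, ha, hs, hev⟩ := exists_frac hV ⟨ξ, hξV⟩ f hf
  have hM : (((hV.primeIdealOf ⟨ξ, hξV⟩).asIdeal ⊔ Ideal.span {a}).minimalPrimes ∪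
      ((hV.primeIdealOf ⟨ξ, hξV⟩).asIdeal ⊔ Ideal.span {s}).minimalPrimes).Finite :=
    (Ideal.finite_minimalPrimes_of_isNoetherianRing _ _).union
      (Ideal.finite_minimalPrimes_of_isNoetherianRing _ _)
  have hM' : {Q : PrimeSpectrum Γ(X, V) | Q.asIdeal ∈
      ((hV.primeIdealOf ⟨ξ, hξV⟩).asIdeal ⊔ Ideal.span {a}).minimalPrimes ∪
      ((hV.primeIdealOf ⟨ξ, hξV⟩).asIdeal ⊔ Ideal.span {s}).minimalPrimes}.Finite :=
    hM.preimage (fun Q _ Q' _ h => PrimeSpectrum.ext h)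
  refine (hM'.image (fun Q => hV.fromSpec Q)).subset ?_
  rintro x ⟨hxV, hx⟩
  refine ⟨hV.primeIdealOf ⟨x, hxV⟩, ?_, hV.fromSpec_primeIdealOf ⟨x, hxV⟩⟩
  rw [Function.mem_support] at hx
  unfold Cyc.divFun at hx
  by_cases hc : ξ ⤳ x ∧ δ x + 1 = δ ξ
  swap
  · rw [dif_neg hc] at hx
    exact absurd rfl hx
  rw [dif_pos hc] at hx
  have hnot : ¬ (IsUnit ((X.presheaf.germ V x hxV).hom a) ∧
      IsUnit ((X.presheaf.germ V x hxV).hom s)) := by
    rintro ⟨hua, hus⟩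
    apply hx
    refine ordAt_eq_zero_of_units x ξ hc.1 f hf _ _ hua hus ?_
    rw [specMap_germ, specMap_germ]
    exact hev
  rw [not_and_or] at hnot
  rcases hnot with h1 | h1
  · left
    refine mem_minimalPrimes_of_delta hV δ hX.2.2 ⟨ξ, hξV⟩ ⟨x, hxV⟩ hc.1 hc.2 a ha ?_
    rw [mem_primeIdealOf_iff hV ⟨x, hxV⟩ a]
    exact (IsLocalRing.mem_maximalIdeal _).mpr h1
  · right
    refine mem_minimalPrimes_of_delta hV δ hX.2.2 ⟨ξ, hξV⟩ ⟨x, hxV⟩ hc.1 hc.2 s hs ?_
    rw [mem_primeIdealOf_iff hV ⟨x, hxV⟩ s]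
    exact (IsLocalRing.mem_maximalIdeal _).mpr h1

end Affine

section Family

variable {X : Scheme.{u}}

/-- a locally finite family of principal divisors sums to a cycle -/
theorem exists_cycle_of_family (δ : X → ℤ) (hX : Cyc.IsSetup X δ) (ι : Type u) (ξ : ι → X)
    (f : (i : ι) → X.residueField (ξ i)) (hf : ∀ i, f i ≠ 0)
    (hlf : ∀ x : X, ∃ U : Set X, IsOpen U ∧ x ∈ U ∧
      {i | (closure {ξ i} ∩ U).Nonempty}.Finite) :
    ∃ D : AlgebraicCycle X ℤ, ∀ x, D x = ∑ᶠ i, Cyc.divFun δ (ξ i) (f i) x := by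
  refine ⟨⟨fun x => ∑ᶠ i, Cyc.divFun δ (ξ i) (f i) x, Set.subset_univ _, ?_⟩, fun x => rfl⟩
  intro z _
  obtain ⟨U, hU, hzU, hfin⟩ := hlf z
  obtain ⟨_, ⟨V, hV, rfl⟩, hzV, hVU⟩ :=
    X.isBasis_affineOpens.exists_subset_of_mem_open hzU hU
  refine ⟨(V : Set X), V.isOpen.mem_nhds hzV, ?_⟩
  refine (hfin.biUnion (fun i _ =>
    finite_support_divFun_inter hV δ hX (ξ i) (f i) (hf i))).subset ?_
  rintro x ⟨hxV, hx⟩
  rw [Function.mem_support] at hx
  have hex : ∃ i, Cyc.divFun δ (ξ i) (f i) x ≠ 0 := by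
    by_contra hcon
    push Not at hcon
    exact hx (finsum_eq_zero_of_forall_eq_zero hcon)
  obtain ⟨i, hi⟩ := hex
  have hsp : ξ i ⤳ x := by
    by_contra hn
    apply hi
    unfold Cyc.divFun
    rw [dif_neg (fun h => hn h.1)]
  exact Set.mem_iUnion₂.mpr ⟨i, ⟨x, specializes_iff_mem_closure.mp hsp, hVU hxV⟩, hxV, hi⟩

theorem mem_Zk_of_family (δ : X → ℤ) (k : ℤ) (ι : Type u) (ξ : ι → X)
    (f : (i : ι) → X.residueField (ξ i)) (hδ : ∀ i, δ (ξ i) = k + 1)
    (D : AlgebraicCycle X ℤ) (hD : ∀ x, D x = ∑ᶠ i, Cyc.divFun δ (ξ i) (f i) x) :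
    D ∈ Cyc.Zk X δ k := by
  intro x hx
  rw [hD x]
  apply finsum_eq_zero_of_forall_eq_zero
  intro i
  unfold Cyc.divFun
  rw [dif_neg]
  rintro ⟨-, h⟩
  apply hx
  have := hδ i
  omega

end Family

section Transport

variable {R R' : Type u} [CommRing R] [CommRing R'] (e : R ≃+* R')
variable {K K' : Type u} [Field K] [Field K'] [Algebra R K] [Algebra R' K'] (eK : K ≃+* K')
  (hcomm : ∀ r, eK (algebraMap R K r) = algebraMap R' K' (e r))

include hcomm in
/-- hypothesis free transport of the order function along compatible isomorphisms -/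
theorem cyc_ordFrac_ringEquiv' (f : K) :
    CycAlg.ordFrac R' K' (eK f) = CycAlg.ordFrac R K f := by
  by_cases h : IsNoetherianRing R ∧ Ring.KrullDimLE 1 R ∧ Nontrivial R ∧ IsFractionRing R K
  · haveI := h.1; haveI := h.2.1; haveI := h.2.2.1; haveI := h.2.2.2
    exact cyc_ordFrac_ringEquiv e eK hcomm f
  · by_cases h' : IsNoetherianRing R' ∧ Ring.KrullDimLE 1 R' ∧ Nontrivial R' ∧
        IsFractionRing R' K'
    · haveI := h'.1; haveI := h'.2.1; haveI := h'.2.2.1; haveI := h'.2.2.2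
      have hcomm' : ∀ r, eK.symm (algebraMap R' K' r) = algebraMap R K (e.symm r) := by
        intro r
        apply eK.injective
        rw [eK.apply_symm_apply, hcomm, e.apply_symm_apply]
      have h1 := cyc_ordFrac_ringEquiv e.symm eK.symm hcomm' (eK f)
      rw [eK.symm_apply_apply] at h1
      exact h1.symm
    · unfold CycAlg.ordFrac
      rw [dif_neg h, dif_neg h']

end Transport

section Morphism

theorem specMap_compat' {X Y : Scheme.{u}} (f : X ⟶ Y) (x ξ : X) (h : ξ ⤳ x)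
    (h' : f ξ ⤳ f x) (a : Y.presheaf.stalk (f x)) :
    (f.residueFieldMap ξ).hom (Cyc.specMap (f x) (f ξ) h' a) =
      Cyc.specMap x ξ h ((f.stalkMap x).hom a) := by
  unfold Cyc.specMap
  have h1 := Scheme.Hom.stalkSpecializes_stalkMap_apply f ξ x h a
  have h2 := DFunLike.congr_fun (CommRingCat.hom_ext_iff.mp
    (Scheme.residue_residueFieldMap f ξ)) ((Y.presheaf.stalkSpecializes h').hom a)
  simp only [CommRingCat.hom_comp, RingHom.comp_apply] at h2 ⊢
  rw [h2]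
  congr 1

/-- transport of orders along a morphism which is surjective on the stalk at `z` and
bijective on the residue field at `ζ` (open or closed immersions) -/
theorem ordAt_transport {Z X : Scheme.{u}} (j : Z ⟶ X) (z ζ : Z) (h : ζ ⤳ z)
    (h' : j ζ ⤳ j z) (hs : Function.Surjective (j.stalkMap z).hom)
    (hb : Function.Bijective (j.residueFieldMap ζ).hom) (g : X.residueField (j ζ)) :
    Cyc.ordAt z ζ h ((j.residueFieldMap ζ).hom g) = Cyc.ordAt (j z) (j ζ) h' g := by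
  let φ : X.presheaf.stalk (j z) →+* Cyc.LocQuot z ζ h :=
    (Ideal.Quotient.mk (RingHom.ker (Cyc.specMap z ζ h))).comp (j.stalkMap z).hom
  have hφ : Function.Surjective φ := Ideal.Quotient.mk_surjective.comp hs
  have hker : RingHom.ker φ = RingHom.ker (Cyc.specMap (j z) (j ζ) h') := by
    ext a
    rw [RingHom.mem_ker, RingHom.mem_ker]
    change Ideal.Quotient.mk _ ((j.stalkMap z).hom a) = 0 ↔ _
    rw [Ideal.Quotient.eq_zero_iff_mem, RingHom.mem_ker, ← specMap_compat' j z ζ h h' a]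
    exact map_eq_zero_iff _ hb.1
  let e : Cyc.LocQuot (j z) (j ζ) h' ≃+* Cyc.LocQuot z ζ h :=
    (Ideal.quotEquivOfEq hker.symm).trans (RingHom.quotientKerEquivOfSurjective hφ)
  let eK : X.residueField (j ζ) ≃+* Z.residueField ζ := RingEquiv.ofBijective _ hb
  have hcomm : ∀ r, eK (algebraMap (Cyc.LocQuot (j z) (j ζ) h') (X.residueField (j ζ)) r) =
      algebraMap (Cyc.LocQuot z ζ h) (Z.residueField ζ) (e r) := by
    intro r
    obtain ⟨a, rfl⟩ := Ideal.Quotient.mk_surjective r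
    exact specMap_compat' j z ζ h h' a
  exact cyc_ordFrac_ringEquiv' e eK hcomm g

theorem divFun_transport {Z X : Scheme.{u}} (j : Z ⟶ X) (hj : Topology.IsInducing j)
    (δ : X → ℤ) (z ζ : Z) (hs : Function.Surjective (j.stalkMap z).hom)
    (hb : Function.Bijective (j.residueFieldMap ζ).hom) (g : X.residueField (j ζ)) :
    Cyc.divFun (fun z => δ (j z)) ζ ((j.residueFieldMap ζ).hom g) z =
      Cyc.divFun δ (j ζ) g (j z) := by
  unfold Cyc.divFun
  by_cases hc : ζ ⤳ z ∧ δ (j z) + 1 = δ (j ζ)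
  · have hc' : j ζ ⤳ j z ∧ δ (j z) + 1 = δ (j ζ) := ⟨hc.1.map j.continuous, hc.2⟩
    rw [dif_pos hc, dif_pos hc']
    exact ordAt_transport j z ζ hc.1 hc'.1 hs hb g
  · have hc' : ¬ (j ζ ⤳ j z ∧ δ (j z) + 1 = δ (j ζ)) :=
      fun h => hc ⟨hj.specializes_iff.mp h.1, h.2⟩
    rw [dif_neg hc, dif_neg hc']

end Morphism

end Groth.Agent.Helper7.DivFin
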