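import Mathlib
import Groth.Prelude.Def_Cyc
import Groth.Agent.Lib.Helper7.DivFin.Main

set_option linter.style.haveILetI false
set_option linter.unusedVariables false
set_option linter.unusedSectionVars false
set_option autoImplicit false
set_option backward.isDefEq.respectTransparency.types false
set_option synthInstance.maxHeartbeats 400000
set_option maxHeartbeats 1600000

namespace Groth.Agent.Helper7.DivFin

open CategoryTheory CategoryTheory.Limits AlgebraicGeometry IsLocalRing TopologicalSpace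
open Groth.Agent.Lead.SecOrd Groth.Agent.Helper7.CycLim

universe u

/-! helper7: helper7: principal divisors and closed immersions: pullback of families, pushforward of cycles along closed immersions, negation of rational equivalence -/

section Weak

variable {X : Scheme.{u}} {V : X.Opens} (hV : IsAffineOpen V)

include hV in
theorem finite_support_divFun_inter' [IsLocallyNoetherian X] (δ : X → ℤ)
    (hδ : Cyc.IsDimFun X δ) (ξ : X) (f : X.residueField ξ) (hf : f ≠ 0) :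
    ((V : Set X) ∩ Function.support (Cyc.divFun δ ξ f)).Finite := by
  by_cases hξV : ξ ∈ V
  swap
  · have hem : (V : Set X) ∩ Function.support (Cyc.divFun δ ξ f) = ∅ := by
      rw [Set.eq_empty_iff_forall_notMem]
      rintro x ⟨hxV, hx⟩
      rw [Function.mem_support] at hx
      apply hx
      unfold Cyc.divFun
      rw [dif_neg]
      rintro ⟨hsp, -⟩
      exact hξV (hsp.mem_open V.isOpen hxV)
    rw [hem]
    exact Set.finite_empty
  haveI : IsNoetherianRing Γ(X, V) := IsLocallyNoetherian.component_noetherian ⟨V, hV⟩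
  obtain ⟨a, s, ha, hs, hev⟩ := exists_frac hV ⟨ξ, hξV⟩ f hf
  have hM : (((hV.primeIdealOf ⟨ξ, hξV⟩).asIdeal ⊔ Ideal.span {a}).minimalPrimes ∪
      ((hV.primeIdealOf ⟨ξ, hξV⟩).asIdeal ⊔ Ideal.span {s}).minimalPrimes).Finite :=
    (Ideal.finite_minimalPrimes_of_isNoetherianRing _ _).union
      (Ideal.finite_minimalPrimes_of_isNoetherianRing _ _)
  have hM' : {Q : PrimeSpectrum Γ(X, V) | Q.asIdeal ∈
      ((hV.primeIdealOf ⟨ξ, hξV⟩).asIdeal ⊔ Ideal.span {a}).minimalPrimes ∪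
      ((hV.primeIdealOf ⟨ξ, hξV⟩).asIdeal ⊔ Ideal.span {s}).minimalPrimes}.Finite :=
    hM.preimage (fun Q _ Q' _ h => PrimeSpectrum.ext h)
  refine (hM'.image (fun Q => hV.fromSpec Q)).subset ?_
  rintro x ⟨hxV, hx⟩
  refine ⟨hV.primeIdealOf ⟨x, hxV⟩, ?_, hV.fromSpec_primeIdealOf ⟨x, hxV⟩⟩
  rw [Function.mem_support] at hx
  unfold Cyc.divFun at hx
  by_cases hc : ξ ⤳ x ∧ δ x + 1 = δ ξ
  swap
  · rw [dif_neg hc] at hx
    exact absurd rfl hx
  rw [dif_pos hc] at hx
  have hnot : ¬ (IsUnit ((X.presheaf.germ V x hxV).hom a) ∧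
      IsUnit ((X.presheaf.germ V x hxV).hom s)) := by
    rintro ⟨hua, hus⟩
    apply hx
    refine ordAt_eq_zero_of_units x ξ hc.1 f hf _ _ hua hus ?_
    rw [specMap_germ, specMap_germ]
    exact hev
  rw [not_and_or] at hnot
  rcases hnot with h1 | h1
  · left
    refine mem_minimalPrimes_of_delta hV δ hδ ⟨ξ, hξV⟩ ⟨x, hxV⟩ hc.1 hc.2 a ha ?_
    rw [mem_primeIdealOf_iff hV ⟨x, hxV⟩ a]
    exact (IsLocalRing.mem_maximalIdeal _).mpr h1
  · right
    refine mem_minimalPrimes_of_delta hV δ hδ ⟨ξ, hξV⟩ ⟨x, hxV⟩ hc.1 hc.2 s hs ?_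
    rw [mem_primeIdealOf_iff hV ⟨x, hxV⟩ s]
    exact (IsLocalRing.mem_maximalIdeal _).mpr h1

/-- a locally finite family of principal divisors sums to a cycle (weak hypotheses) -/
theorem exists_cycle_of_family' [IsLocallyNoetherian X] (δ : X → ℤ) (hδ : Cyc.IsDimFun X δ)
    (ι : Type u) (ξ : ι → X)
    (f : (i : ι) → X.residueField (ξ i)) (hf : ∀ i, f i ≠ 0)
    (hlf : ∀ x : X, ∃ U : Set X, IsOpen U ∧ x ∈ U ∧
      {i | (closure {ξ i} ∩ U).Nonempty}.Finite) :
    ∃ D : AlgebraicCycle X ℤ, ∀ x, D x = ∑ᶠ i, Cyc.divFun δ (ξ i) (f i) x := by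
  refine ⟨⟨fun x => ∑ᶠ i, Cyc.divFun δ (ξ i) (f i) x, Set.subset_univ _, ?_⟩, fun x => rfl⟩
  intro z _
  obtain ⟨U, hU, hzU, hfin⟩ := hlf z
  obtain ⟨_, ⟨V, hV, rfl⟩, hzV, hVU⟩ :=
    X.isBasis_affineOpens.exists_subset_of_mem_open hzU hU
  refine ⟨(V : Set X), V.isOpen.mem_nhds hzV, ?_⟩
  refine (hfin.biUnion (fun i _ =>
    finite_support_divFun_inter' hV δ hδ (ξ i) (f i) (hf i))).subset ?_
  rintro x ⟨hxV, hx⟩
  rw [Function.mem_support] at hx
  have hex : ∃ i, Cyc.divFun δ (ξ i) (f i) x ≠ 0 := by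
    by_contra hcon
    push Not at hcon
    exact hx (finsum_eq_zero_of_forall_eq_zero hcon)
  obtain ⟨i, hi⟩ := hex
  have hsp : ξ i ⤳ x := by
    by_contra hn
    apply hi
    unfold Cyc.divFun
    rw [dif_neg (fun h => hn h.1)]
  exact Set.mem_iUnion₂.mpr ⟨i, ⟨x, specializes_iff_mem_closure.mp hsp, hVU hxV⟩, hxV, hi⟩

end Weak

section Helpers

theorem finsum_split {ι : Type*} (S : Set ι) (a : ι → ℤ) (ha : (Function.support a).Finite) :
    ∑ᶠ i, a i = ∑ᶠ i : S, a i + ∑ᶠ i : (Sᶜ : Set ι), a i := by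
  rw [finsum_set_coe_eq_finsum_mem (f := a) S, finsum_set_coe_eq_finsum_mem (f := a) Sᶜ,
    ← finsum_mem_union' disjoint_compl_right (ha.subset Set.inter_subset_right)
      (ha.subset Set.inter_subset_right), Set.union_compl_self, finsum_mem_univ]

theorem finrank_eq_one_of_surj {K L : Type u} [Field K] [Field L] [Algebra K L]
    (h : Function.Surjective (algebraMap K L)) : Module.finrank K L = 1 := by
  rw [← Subalgebra.bot_eq_top_iff_finrank_eq_one]
  exact (Algebra.surjective_algebraMap_iff.mp h).symm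

theorem residueFieldMap_bijective_of_surjective {Z X : Scheme.{u}} (j : Z ⟶ X) (ζ : Z)
    (hs : Function.Surjective (j.stalkMap ζ).hom) :
    Function.Bijective (j.residueFieldMap ζ).hom := by
  refine ⟨(j.residueFieldMap ζ).hom.injective, ?_⟩
  intro b
  obtain ⟨b', rfl⟩ : ∃ b', (Z.residue ζ).hom b' = b := Z.residue_surjective ζ b
  obtain ⟨a, rfl⟩ := hs b'
  refine ⟨(X.residue (j ζ)).hom a, ?_⟩
  have h2 := DFunLike.congr_fun (CommRingCat.hom_ext_iff.mp
    (Scheme.residue_residueFieldMap j ζ)) a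
  simp only [CommRingCat.hom_comp, RingHom.comp_apply] at h2
  exact h2

variable {X : Scheme.{u}}

theorem finite_support_family (δ : X → ℤ) (ι : Type u) (ξ : ι → X)
    (f : (a : ι) → X.residueField (ξ a))
    (hlf : ∀ x : X, ∃ U : Set X, IsOpen U ∧ x ∈ U ∧
      {a | (closure {ξ a} ∩ U).Nonempty}.Finite) (x : X) :
    (Function.support (fun a => Cyc.divFun δ (ξ a) (f a) x)).Finite := by
  obtain ⟨U, hU, hxU, hfin⟩ := hlf x
  refine hfin.subset ?_
  intro a ha
  rw [Function.mem_support] at ha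
  have hsp : ξ a ⤳ x := by
    by_contra hn
    apply ha
    unfold Cyc.divFun
    rw [dif_neg (fun h => hn h.1)]
  exact ⟨x, specializes_iff_mem_closure.mp hsp, hxU⟩

theorem ordAt_inv (x ξ : X) (h : ξ ⤳ x) (f : X.residueField ξ) (hf : f ≠ 0) :
    Cyc.ordAt x ξ h f⁻¹ = - Cyc.ordAt x ξ h f := by
  have h1 := ordFrac_mul (Cyc.LocQuot x ξ h) (X.residueField ξ) hf (inv_ne_zero hf)
  rw [mul_inv_cancel₀ hf] at h1
  have h2 := ordFrac_unit (Cyc.LocQuot x ξ h) (X.residueField ξ) 1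
  rw [Units.val_one, map_one] at h2
  rw [h2] at h1
  unfold Cyc.ordAt
  omega

theorem divFun_inv (δ : X → ℤ) (ξ : X) (f : X.residueField ξ) (hf : f ≠ 0) (x : X) :
    Cyc.divFun δ ξ f⁻¹ x = - Cyc.divFun δ ξ f x := by
  unfold Cyc.divFun
  by_cases hc : ξ ⤳ x ∧ δ x + 1 = δ ξ
  · rw [dif_pos hc, dif_pos hc]
    exact ordAt_inv x ξ hc.1 f hf
  · rw [dif_neg hc, dif_neg hc, neg_zero]

theorem ratEquivZero_neg (δ : X → ℤ) (k : ℤ) (D : AlgebraicCycle X ℤ)
    (h : Cyc.RatEquivZero δ k D) : Cyc.RatEquivZero δ k (-D) := by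
  obtain ⟨ι, ξ, f, hδξ, hf, hlf, hsum⟩ := h
  refine ⟨ι, ξ, fun a => (f a)⁻¹, hδξ, fun a => inv_ne_zero (hf a), hlf, ?_⟩
  intro x
  rw [Function.locallyFinsuppWithin.coe_neg, Pi.neg_apply, hsum x, ← finsum_neg_distrib]
  apply finsum_congr
  intro a
  exact (divFun_inv δ (ξ a) (f a) (hf a) x).symm

end Helpers

section Closed

variable {Z X : Scheme.{u}} (i : Z ⟶ X) [IsClosedImmersion i]

theorem exists_divFun_pull (δ : X → ℤ) (ξ : X)
    (hξ : ξ ∈ Set.range i) (f : X.residueField ξ) (hf : f ≠ 0) :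
    ∃ (ζ : Z) (g : Z.residueField ζ), g ≠ 0 ∧ i ζ = ξ ∧
      ∀ z, Cyc.divFun (fun z => δ (i z)) ζ g z = Cyc.divFun δ ξ f (i z) := by
  obtain ⟨ζ, rfl⟩ := hξ
  have hb := residueFieldMap_bijective_of_surjective i ζ (i.stalkMap_surjective ζ)
  refine ⟨ζ, (i.residueFieldMap ζ).hom f, ?_, rfl, ?_⟩
  · intro h0
    apply hf
    apply hb.1
    rw [h0, map_zero]
  · intro z
    exact divFun_transport i i.isClosedEmbedding.toIsEmbedding.toIsInducing δ z ζ
      (i.stalkMap_surjective z) hb f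

theorem divFun_eq_zero_of_notMem_range (δ : X → ℤ) (ξ : X) (hξ : ξ ∈ Set.range i)
    (f : X.residueField ξ) (y : X) (hy : y ∉ Set.range i) : Cyc.divFun δ ξ f y = 0 := by
  unfold Cyc.divFun
  rw [dif_neg]
  rintro ⟨hsp, -⟩
  apply hy
  exact i.isClosedEmbedding.isClosed_range.stableUnderSpecialization hsp hξ

/-- restriction of a cycle along an injective morphism -/
noncomputable def comapCycle (hi : Function.Injective i)
    (c : AlgebraicCycle X ℤ) : AlgebraicCycle Z ℤ where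
  toFun z := c (i z)
  supportWithinDomain' := Set.subset_univ _
  supportLocallyFiniteWithinDomain' := fun z _ => by
    obtain ⟨t, ht, hfin⟩ := c.supportLocallyFiniteWithinDomain (i z) (Set.mem_univ _)
    refine ⟨i ⁻¹' t, i.continuous.continuousAt ht, ?_⟩
    have hmaps : Set.MapsTo i (i ⁻¹' t ∩ Function.support (fun z => c (i z)))
        (t ∩ Function.support c) := fun z' hz' => ⟨hz'.1, hz'.2⟩
    exact Set.Finite.of_injOn hmaps hi.injOn hfin

theorem comapCycle_apply (hi : Function.Injective i) (c : AlgebraicCycle X ℤ) (z : Z) :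
    comapCycle i hi c z = c (i z) := rfl

theorem ratEquivZero_comap (δ : X → ℤ) (k : ℤ)
    (ι : Type u) (ξ : ι → X) (f : (a : ι) → X.residueField (ξ a))
    (hδξ : ∀ a, δ (ξ a) = k + 1) (hf : ∀ a, f a ≠ 0)
    (hlf : ∀ x : X, ∃ U : Set X, IsOpen U ∧ x ∈ U ∧
      {a | (closure {ξ a} ∩ U).Nonempty}.Finite)
    (hrange : ∀ a, ξ a ∈ Set.range i)
    (D : AlgebraicCycle X ℤ) (hD : ∀ x, D x = ∑ᶠ a, Cyc.divFun δ (ξ a) (f a) x)
    (DZ : AlgebraicCycle Z ℤ) (hDZ : ∀ z, DZ z = D (i z)) :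
    Cyc.RatEquivZero (fun z => δ (i z)) k DZ := by
  choose ζ g hg hζ hdiv using fun a => exists_divFun_pull i δ (ξ a) (hrange a) (f a) (hf a)
  refine ⟨ι, ζ, g, ?_, hg, ?_, ?_⟩
  · intro a
    show δ (i (ζ a)) = k + 1
    rw [hζ a]
    exact hδξ a
  · intro z
    obtain ⟨U, hU, hzU, hfin⟩ := hlf (i z)
    refine ⟨i ⁻¹' U, hU.preimage i.continuous, hzU, ?_⟩
    refine hfin.subset ?_
    rintro a ⟨z', hz'1, hz'2⟩
    refine ⟨i z', ?_, hz'2⟩
    have hsp : ζ a ⤳ z' := specializes_iff_mem_closure.mpr hz'1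
    have hsp' := hsp.map i.continuous
    rw [hζ a] at hsp'
    exact specializes_iff_mem_closure.mp hsp'
  · intro z
    rw [hDZ, hD]
    apply finsum_congr
    intro a
    exact (hdiv a z).symm

theorem map_closedImmersion_apply (wz : Z → ℤ) (wx : X → ℤ)
    (hw : ∀ z, wz z = wx (i z)) (c : AlgebraicCycle Z ℤ) (z : Z) :
    AlgebraicCycle.map i wz wx c (i z) = c z := by
  have hinj : Function.Injective i := i.isClosedEmbedding.injective
  have hdeg : i.residueDegree z = 1 := by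
    unfold Scheme.Hom.residueDegree
    letI := (i.residueFieldMap z).hom.toAlgebra
    exact finrank_eq_one_of_surj
      (residueFieldMap_bijective_of_surjective i z (i.stalkMap_surjective z)).2
  change (∑ᶠ x ∈ i ⁻¹' {i z}, c x * ((AlgebraicCycle.mapCoeff i wz wx x : ℕ) : ℤ)) = c z
  rw [finsum_mem_def, finsum_eq_single _ z]
  · have hmem : z ∈ i ⁻¹' {i z} := rfl
    rw [Set.indicator_of_mem hmem]
    unfold AlgebraicCycle.mapCoeff
    rw [if_pos (hw z), hdeg]
    simp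
  · intro x hx
    rw [Set.indicator_of_notMem]
    intro hmem
    exact hx (hinj hmem)

theorem map_closedImmersion_apply_of_notMem (wz : Z → ℤ) (wx : X → ℤ)
    (c : AlgebraicCycle Z ℤ) (y : X) (hy : y ∉ Set.range i) :
    AlgebraicCycle.map i wz wx c y = 0 := by
  change (∑ᶠ x ∈ i ⁻¹' {y}, c x * ((AlgebraicCycle.mapCoeff i wz wx x : ℕ) : ℤ)) = 0
  rw [finsum_mem_def]
  apply finsum_eq_zero_of_forall_eq_zero
  intro x
  rw [Set.indicator_of_notMem]
  intro hmem
  exact hy ⟨x, hmem⟩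

end Closed

end Groth.Agent.Helper7.DivFin
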