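import Mathlib
import Groth.Prelude.Def_C1
import Groth.Agent.Lib.Lead.SecOrd1
import Groth.Agent.Lib.Helper7.DivFin.MV

set_option linter.style.haveILetI false
set_option linter.unusedVariables false
set_option linter.unusedSectionVars false
set_option autoImplicit false
set_option backward.isDefEq.respectTransparency.types false
set_option synthInstance.maxHeartbeats 400000
set_option maxHeartbeats 1600000

namespace Groth.Agent.Helper7.DivFin

open CategoryTheory CategoryTheory.Limits AlgebraicGeometry IsLocalRing TopologicalSpace Opposite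
open Groth.Agent.Helper1.QcCech Groth.Agent.Helper1.LGen Groth.Agent.Lead.RkSch
open Groth.Agent.Lead.SecOrd

universe u

/-! helper7: helper7: orders of rational sections of invertible modules along arbitrary specializations; weighted sums of principal divisors are rationally trivial -/

section Ord

variable {X : Scheme.{u}}

theorem ordAt_mul (x ξ : X) (h : ξ ⤳ x) {f g : X.residueField ξ} (hf : f ≠ 0) (hg : g ≠ 0) :
    Cyc.ordAt x ξ h (f * g) = Cyc.ordAt x ξ h f + Cyc.ordAt x ξ h g := by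
  unfold Cyc.ordAt
  exact ordFrac_mul (Cyc.LocQuot x ξ h) (X.residueField ξ) hf hg

theorem ordAt_one (x ξ : X) (h : ξ ⤳ x) : Cyc.ordAt x ξ h 1 = 0 := by
  have h2 := ordFrac_unit (Cyc.LocQuot x ξ h) (X.residueField ξ) 1
  rw [Units.val_one, map_one] at h2
  exact h2

theorem ordAt_pow (x ξ : X) (h : ξ ⤳ x) {f : X.residueField ξ} (hf : f ≠ 0) (n : ℕ) :
    Cyc.ordAt x ξ h (f ^ n) = n * Cyc.ordAt x ξ h f := by
  induction n with
  | zero => rw [pow_zero, ordAt_one]; simp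
  | succ m ih =>
    rw [pow_succ, ordAt_mul x ξ h (pow_ne_zero m hf) hf, ih]
    push_cast
    ring

theorem ordAt_zpow (x ξ : X) (h : ξ ⤳ x) {f : X.residueField ξ} (hf : f ≠ 0) (n : ℤ) :
    Cyc.ordAt x ξ h (f ^ n) = n * Cyc.ordAt x ξ h f := by
  obtain ⟨m, rfl | rfl⟩ := n.eq_nat_or_neg
  · rw [zpow_natCast, ordAt_pow x ξ h hf]
  · rw [zpow_neg, zpow_natCast, ordAt_inv x ξ h _ (pow_ne_zero m hf), ordAt_pow x ξ h hf]
    ring

theorem divFun_zpow (δ : X → ℤ) (ξ : X) {f : X.residueField ξ} (hf : f ≠ 0) (n : ℤ) (x : X) :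
    Cyc.divFun δ ξ (f ^ n) x = n * Cyc.divFun δ ξ f x := by
  unfold Cyc.divFun
  by_cases hc : ξ ⤳ x ∧ δ x + 1 = δ ξ
  · rw [dif_pos hc, dif_pos hc]
    exact ordAt_zpow x ξ hc.1 hf n
  · rw [dif_neg hc, dif_neg hc, mul_zero]

theorem divFun_mul (δ : X → ℤ) (ξ : X) {f g : X.residueField ξ} (hf : f ≠ 0) (hg : g ≠ 0)
    (x : X) : Cyc.divFun δ ξ (f * g) x = Cyc.divFun δ ξ f x + Cyc.divFun δ ξ g x := by
  unfold Cyc.divFun
  by_cases hc : ξ ⤳ x ∧ δ x + 1 = δ ξ
  · rw [dif_pos hc, dif_pos hc, dif_pos hc]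
    exact ordAt_mul x ξ hc.1 hf hg
  · rw [dif_neg hc, dif_neg hc, dif_neg hc, add_zero]

theorem finsum_subtype_support {ι : Type*} (S : Set ι) (F : ι → ℤ)
    (hF : Function.support F ⊆ S) : ∑ᶠ i : S, F i = ∑ᶠ i, F i := by
  rw [finsum_set_coe_eq_finsum_mem (f := F) S, finsum_mem_def, Set.indicator_eq_self.mpr hF]

/-- the points of the support of a cycle which specialize to a given point are finite -/
theorem finite_support_specializes (α : AlgebraicCycle X ℤ) (x : X) :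
    {ξ : X | α ξ ≠ 0 ∧ ξ ⤳ x}.Finite := by
  obtain ⟨t, ht, hfin⟩ := α.supportLocallyFiniteWithinDomain x (Set.mem_univ _)
  refine hfin.subset ?_
  rintro ξ ⟨h1, h2⟩
  refine ⟨?_, h1⟩
  exact mem_of_mem_nhds (h2 ht)

/-- a weighted sum of principal divisors over the support of a cycle is rationally trivial -/
theorem ratEquivZero_of_weighted (δ : X → ℤ) (k : ℤ) (α : AlgebraicCycle X ℤ)
    (hα : α ∈ Cyc.Zk X δ (k + 1)) (g : (ξ : X) → X.residueField ξ) (hg : ∀ ξ, g ξ ≠ 0)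
    (D : AlgebraicCycle X ℤ)
    (hD : ∀ x, D x = ∑ᶠ ξ : X, α ξ * Cyc.divFun δ ξ (g ξ) x) : Cyc.RatEquivZero δ k D := by
  classical
  refine ⟨(Function.support α : Set X), fun i => i.1, fun i => (g i.1) ^ (α i.1), ?_, ?_, ?_, ?_⟩
  · intro i
    by_contra hne
    exact i.2 (hα i.1 hne)
  · intro i
    exact zpow_ne_zero _ (hg i.1)
  · intro x
    obtain ⟨t, ht, hfin⟩ := α.supportLocallyFiniteWithinDomain x (Set.mem_univ _)
    refine ⟨interior t, isOpen_interior, mem_interior_iff_mem_nhds.mpr ht, ?_⟩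
    have hmaps : Set.MapsTo (fun i : (Function.support α : Set X) => i.1)
        {i | (closure {i.1} ∩ interior t).Nonempty} (t ∩ Function.support α) := by
      rintro i ⟨y, hy1, hy2⟩
      have hmem : i.1 ∈ interior t :=
        (specializes_iff_mem_closure.mpr hy1).mem_open isOpen_interior hy2
      exact ⟨interior_subset hmem, i.2⟩
    exact Set.Finite.of_injOn hmaps Subtype.val_injective.injOn hfin
  · intro x
    rw [hD x]
    have h1 : ∀ i : (Function.support α : Set X),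
        Cyc.divFun δ i.1 (g i.1 ^ α i.1) x = α i.1 * Cyc.divFun δ i.1 (g i.1) x :=
      fun i => divFun_zpow δ i.1 (hg i.1) (α i.1) x
    rw [finsum_congr h1]
    symm
    apply finsum_subtype_support (Function.support α) (fun ξ => α ξ * Cyc.divFun δ ξ (g ξ) x)
    intro ξ hξ
    rw [Function.mem_support] at hξ ⊢
    intro h0
    apply hξ
    rw [h0, zero_mul]

end Ord

section Sec

variable {X : Scheme.{u}} (L : X.Modules)

/-- specialization of germs of a module -/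
noncomputable def spG {x y : X} (h : y ⤳ x) : L.presheaf.stalk x → L.presheaf.stalk y :=
  (L.presheaf.stalkSpecializes h).hom

theorem spG_germ {x y : X} (h : y ⤳ x) {U : X.Opens} (hx : x ∈ U) (n : Γ(L, U)) :
    spG L h (L.presheaf.germ U x hx n) = L.presheaf.germ U y (h.mem_open U.2 hx) n :=
  TopCat.Presheaf.germ_stalkSpecializes_apply L.presheaf hx h n

theorem spR_germ {x y : X} (h : y ⤳ x) {U : X.Opens} (hx : x ∈ U) (r : Γ(X, U)) :
    (X.presheaf.stalkSpecializes h).hom (X.presheaf.germ U x hx r) =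
      X.presheaf.germ U y (h.mem_open U.2 hx) r :=
  TopCat.Presheaf.germ_stalkSpecializes_apply X.presheaf hx h r

theorem spG_smul {x y : X} (h : y ⤳ x) (ρ : X.presheaf.stalk x) (m : L.presheaf.stalk x) :
    spG L h (ρ • m) = (X.presheaf.stalkSpecializes h).hom ρ • spG L h m := by
  obtain ⟨U₁, hx₁, r, rfl⟩ := TopCat.Presheaf.exists_germ_eq X.presheaf ρ
  obtain ⟨U₂, hx₂, n, rfl⟩ := TopCat.Presheaf.exists_germ_eq L.presheaf m
  have e1 : X.presheaf.germ U₁ x hx₁ r =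
      X.presheaf.germ (U₁ ⊓ U₂) x ⟨hx₁, hx₂⟩ (resR (inf_le_left : U₁ ⊓ U₂ ≤ U₁) r) :=
    (germ_resR (inf_le_left : U₁ ⊓ U₂ ≤ U₁) x ⟨hx₁, hx₂⟩ r).symm
  have e2 : L.presheaf.germ U₂ x hx₂ n =
      L.presheaf.germ (U₁ ⊓ U₂) x ⟨hx₁, hx₂⟩ (res L (inf_le_right : U₁ ⊓ U₂ ≤ U₂) n) :=
    (germ_res L (inf_le_right : U₁ ⊓ U₂ ≤ U₂) x ⟨hx₁, hx₂⟩ n).symm
  rw [e1, e2, ← gsm, spG_germ, spR_germ, spG_germ, gsm]

/-- the class of an element of a stalk in the fibre -/
noncomputable def mkF (ξ : X) (m : L.presheaf.stalk ξ) : Cyc.secFibre L ξ :=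
  Submodule.Quotient.mk m

theorem mkF_smul (ξ : X) (φ : X.presheaf.stalk ξ) (m : L.presheaf.stalk ξ) :
    mkF L ξ (φ • m) = φ • mkF L ξ m := rfl

theorem mkF_surjective (ξ : X) : Function.Surjective (mkF L ξ) :=
  Submodule.Quotient.mk_surjective _

variable {L}

theorem mkF_smul_eq_zero_iff {ξ : X} {g : L.presheaf.stalk ξ}
    (h0 : ∀ ρ : X.presheaf.stalk ξ, ρ • g = 0 → ρ = 0)
    (h1 : ∀ v : L.presheaf.stalk ξ, ∃ ρ : X.presheaf.stalk ξ, ρ • g = v)
    (φ : X.presheaf.stalk ξ) :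
    mkF L ξ (φ • g) = 0 ↔ φ ∈ maximalIdeal (X.presheaf.stalk ξ) := by
  unfold mkF
  rw [Submodule.Quotient.mk_eq_zero]
  constructor
  · intro hmem
    have hle : maximalIdeal (X.presheaf.stalk ξ) •
        (⊤ : Submodule (X.presheaf.stalk ξ) (L.presheaf.stalk ξ)) ≤
        Submodule.map (LinearMap.toSpanSingleton (X.presheaf.stalk ξ) (L.presheaf.stalk ξ) g)
          (maximalIdeal (X.presheaf.stalk ξ)) := by
      rw [Submodule.smul_le]
      intro r hr n _
      obtain ⟨ρ, rfl⟩ := h1 n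
      refine ⟨r * ρ, Ideal.mul_mem_right ρ _ hr, ?_⟩
      rw [LinearMap.toSpanSingleton_apply, mul_smul]
    obtain ⟨m, hm, hmeq⟩ := hle hmem
    rw [LinearMap.toSpanSingleton_apply] at hmeq
    have h2 : (m - φ) • g = 0 := by rw [sub_smul, hmeq, sub_self]
    have h3 : m = φ := sub_eq_zero.1 (h0 _ h2)
    rw [← h3]
    exact hm
  · intro hφ
    exact Submodule.smul_mem_smul hφ Submodule.mem_top

/-- the order of the rational section `φ • a` along `ξ ⤳ x`, for a local generator `a` near `x` -/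
theorem secOrdAt_gen {W : X.Opens} {a : Γ(L, W)} (ha : IsGen L W a) (x ξ : X) (hx : x ∈ W)
    (h : ξ ⤳ x) (φ : X.presheaf.stalk ξ) :
    Cyc.secOrdAt L ξ x h (mkF L ξ (φ • L.presheaf.germ W ξ (h.mem_open W.2 hx) a)) =
      Cyc.ordAt x ξ h (X.residue ξ φ) := by
  have hξW : ξ ∈ W := h.mem_open W.2 hx
  obtain ⟨hx0, hx1⟩ := (freeAt_iff a x hx).1 (freeAt_of_isGen ha x hx)
  obtain ⟨hξ0, hξ1⟩ := (freeAt_iff a ξ hξW).1 (freeAt_of_isGen ha ξ hξW)
  have ht : ∃ t : L.presheaf.stalk x, Submodule.span (X.presheaf.stalk x) {t} = ⊤ := by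
    refine ⟨L.presheaf.germ W x hx a, ?_⟩
    rw [eq_top_iff]
    intro v _
    obtain ⟨ρ, hρ⟩ := hx1 v
    rw [← hρ]
    exact Submodule.smul_mem _ _ (Submodule.subset_span rfl)
  obtain ⟨u, hu⟩ := hx1 (Classical.choose ht)
  have hmem : L.presheaf.germ W x hx a ∈
      Submodule.span (X.presheaf.stalk x) {Classical.choose ht} := by
    rw [Classical.choose_spec ht]
    trivial
  obtain ⟨v, hv⟩ := Submodule.mem_span_singleton.1 hmem
  have hvu : v * u = 1 := by
    have h1 : (v * u - 1) • L.presheaf.germ W x hx a = 0 := by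
      rw [sub_smul, one_smul, mul_smul, hu, hv, sub_self]
    exact sub_eq_zero.1 (hx0 _ h1)
  have huu : IsUnit u := IsUnit.of_mul_eq_one v (by rw [mul_comm]; exact hvu)
  set u' : X.presheaf.stalk ξ := (X.presheaf.stalkSpecializes h).hom u with hu'
  have hu'u : IsUnit u' := huu.map _
  have hsp : spG L h (Classical.choose ht) = u' • L.presheaf.germ W ξ hξW a := by
    rw [← hu, spG_smul, spG_germ]
  obtain ⟨w, hw⟩ := hu'u
  have hφ : ∃ φ' : X.presheaf.stalk ξ,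
      mkF L ξ (φ • L.presheaf.germ W ξ hξW a) =
        φ' • (Submodule.Quotient.mk ((L.presheaf.stalkSpecializes h) (Classical.choose ht)) :
          Cyc.secFibre L ξ) := by
    refine ⟨φ * ((w⁻¹ : (X.presheaf.stalk ξ)ˣ) : X.presheaf.stalk ξ), ?_⟩
    change _ = (φ * ((w⁻¹ : (X.presheaf.stalk ξ)ˣ) : X.presheaf.stalk ξ)) •
      mkF L ξ (spG L h (Classical.choose ht))
    rw [hsp, ← mkF_smul, smul_smul, ← hw, mul_assoc, Units.inv_mul, mul_one]
  obtain ⟨φ₀, hφ₀, hφ₀def⟩ : ∃ φ₀ : X.presheaf.stalk ξ,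
      (mkF L ξ (φ • L.presheaf.germ W ξ hξW a) =
        φ₀ • (Submodule.Quotient.mk ((L.presheaf.stalkSpecializes h) (Classical.choose ht)) :
          Cyc.secFibre L ξ)) ∧ φ₀ = Classical.choose hφ :=
    ⟨_, Classical.choose_spec hφ, rfl⟩
  have hkey : φ - φ₀ * u' ∈ maximalIdeal (X.presheaf.stalk ξ) := by
    have h1 := hφ₀
    change _ = φ₀ • mkF L ξ (spG L h (Classical.choose ht)) at h1
    rw [hsp, ← mkF_smul, smul_smul] at h1
    have h2 : mkF L ξ ((φ - φ₀ * u') • L.presheaf.germ W ξ hξW a) = 0 := by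
      rw [sub_smul]
      unfold mkF at h1 ⊢
      rw [Submodule.Quotient.mk_sub, h1, sub_self]
    exact (mkF_smul_eq_zero_iff hξ0 hξ1 _).1 h2
  have hord : Cyc.secOrdAt L ξ x h (mkF L ξ (φ • L.presheaf.germ W ξ hξW a)) =
      Cyc.ordAt x ξ h (X.residue ξ φ₀) := by
    unfold Cyc.secOrdAt
    rw [dif_pos ht, dif_pos hφ, hφ₀def]
  rw [hord]
  have hres : (X.residue ξ).hom φ = (X.residue ξ).hom φ₀ * Cyc.specMap x ξ h u := by
    have h3 : (X.residue ξ).hom (φ - φ₀ * u') = 0 := (IsLocalRing.residue_eq_zero_iff _).2 hkey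
    rw [map_sub, map_mul, sub_eq_zero] at h3
    exact h3
  change Cyc.ordAt x ξ h ((X.residue ξ).hom φ₀) = Cyc.ordAt x ξ h ((X.residue ξ).hom φ)
  rw [hres]
  by_cases h0 : (X.residue ξ).hom φ₀ = 0
  · rw [h0, zero_mul]
  · have hs0 : Cyc.specMap x ξ h u ≠ 0 := (huu.map (Cyc.specMap x ξ h)).ne_zero
    rw [ordAt_mul x ξ h h0 hs0, ordAt_specMap_unit x ξ h u huu, add_zero]

/-- coordinates of a rational section with respect to a local generator -/
theorem exists_eq_mkF_smul {W : X.Opens} {a : Γ(L, W)} (ha : IsGen L W a) (ξ : X) (hξ : ξ ∈ W)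
    (s : Cyc.secFibre L ξ) :
    ∃ φ : X.presheaf.stalk ξ, s = mkF L ξ (φ • L.presheaf.germ W ξ hξ a) := by
  obtain ⟨m, rfl⟩ := mkF_surjective L ξ s
  obtain ⟨-, hξ1⟩ := (freeAt_iff a ξ hξ).1 (freeAt_of_isGen ha ξ hξ)
  obtain ⟨φ, hφ⟩ := hξ1 m
  exact ⟨φ, by rw [hφ]⟩

theorem residue_ne_zero_of_mkF_ne_zero {W : X.Opens} {a : Γ(L, W)} (ha : IsGen L W a) (ξ : X)
    (hξ : ξ ∈ W) (φ : X.presheaf.stalk ξ)
    (hs : mkF L ξ (φ • L.presheaf.germ W ξ hξ a) ≠ 0) : (X.residue ξ).hom φ ≠ 0 := by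
  obtain ⟨hξ0, hξ1⟩ := (freeAt_iff a ξ hξ).1 (freeAt_of_isGen ha ξ hξ)
  intro h0
  apply hs
  rw [mkF_smul_eq_zero_iff hξ0 hξ1]
  exact (IsLocalRing.residue_eq_zero_iff _).1 h0

end Sec

end Groth.Agent.Helper7.DivFin
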