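import Mathlib
import Groth.Prelude.Def_C1
import Groth.Agent.Lib.Helper7.DivFin.SecGen
import Groth.Agent.Lib.Helper1.TensGen
import Groth.Agent.Lib.Helper1.AmpleLib2

set_option linter.style.haveILetI false
set_option linter.unusedVariables false
set_option linter.unusedSectionVars false
set_option autoImplicit false
set_option backward.isDefEq.respectTransparency.types false
set_option synthInstance.maxHeartbeats 400000
set_option maxHeartbeats 1600000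

namespace Groth.Agent.Helper7.DivFin

open CategoryTheory CategoryTheory.Limits AlgebraicGeometry IsLocalRing TopologicalSpace Opposite
open Groth.Agent.Helper1.QcCech Groth.Agent.Helper1.LGen Groth.Agent.Lead.RkSch
open Groth.Agent.Helper1.TmulLib Groth.Agent.Helper1.TensGen

universe u

/-! helper7: helper7: additivity of the first Chern class cap product in the invertible module, and triviality for the structure sheaf (S6454, S6455) -/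

variable {X : Scheme.{u}}

/-- finiteness of supports of the sums defining `c1CapFun` -/
theorem finite_support_of_weighted (α : AlgebraicCycle X ℤ) (x : X) (F : X → ℤ)
    (hF : ∀ ξ, ¬ (α ξ ≠ 0 ∧ ξ ⤳ x) → F ξ = 0) : (Function.support F).Finite := by
  refine (finite_support_specializes α x).subset ?_
  intro ξ hξ
  by_contra hn
  exact hξ (hF ξ hn)

theorem S6455_main (X : Scheme.{u}) (δ : X → ℤ) (hX : Cyc.IsSetup X δ) (k : ℤ)
    (α : AlgebraicCycle X ℤ) (hα : α ∈ Cyc.Zk X δ (k + 1))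
    (s : (ξ : X) → Cyc.secFibre (Coh.structureModule X) ξ) (hs : ∀ ξ, s ξ ≠ 0)
    (γ : AlgebraicCycle X ℤ) (hγ : ⇑γ = Cyc.c1CapFun δ (Coh.structureModule X) ⇑α s) :
    Cyc.RatEquivZero δ k γ := by
  have ha := Groth.Agent.Helper1.AmpleLib.isGen_one' (X := X) ⊤
  have hex : ∀ ξ : X, ∃ g : X.residueField ξ, g ≠ 0 ∧ ∀ (x : X) (h : ξ ⤳ x),
      Cyc.secOrdAt (Coh.structureModule X) ξ x h (s ξ) = Cyc.ordAt x ξ h g := by
    intro ξ
    obtain ⟨φ, hφ⟩ := exists_eq_mkF_smul ha ξ (show ξ ∈ (⊤ : X.Opens) from trivial) (s ξ)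
    refine ⟨(X.residue ξ).hom φ, ?_, ?_⟩
    · exact residue_ne_zero_of_mkF_ne_zero ha ξ _ φ (by rw [← hφ]; exact hs ξ)
    · intro x h
      rw [hφ]
      exact secOrdAt_gen ha x ξ (show x ∈ (⊤ : X.Opens) from trivial) h φ
  choose g hg hord using hex
  apply ratEquivZero_of_weighted δ k α hα g hg γ
  intro x
  rw [hγ]
  unfold Cyc.c1CapFun
  apply finsum_congr
  intro ξ
  congr 1
  unfold Cyc.secDivFun Cyc.divFun
  by_cases hc : ξ ⤳ x ∧ δ x + 1 = δ ξ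
  · rw [dif_pos hc, dif_pos hc]
    exact hord ξ x hc.1
  · rw [dif_neg hc, dif_neg hc]

/-- the ratio of a rational section of a tensor product and the tensor of two rational sections -/
theorem exists_ratio (L N : X.Modules) (hL : PicF.IsInvertible L) (hN : PicF.IsInvertible N)
    (ξ : X) (sL : Cyc.secFibre L ξ) (hsL : sL ≠ 0) (sN : Cyc.secFibre N ξ) (hsN : sN ≠ 0)
    (sT : Cyc.secFibre (CohB1.tensorMod L N) ξ) (hsT : sT ≠ 0) :
    ∃ f : X.residueField ξ, f ≠ 0 ∧ ∀ (x : X) (h : ξ ⤳ x),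
      Cyc.secOrdAt (CohB1.tensorMod L N) ξ x h sT =
        Cyc.secOrdAt L ξ x h sL + Cyc.secOrdAt N ξ x h sN + Cyc.ordAt x ξ h f := by
  obtain ⟨W₀, a₀, b₀, hξW₀, ha₀, hb₀⟩ := exists_isGen₂ hL hN ξ
  have hc₀ : IsGen (CohB1.tensorMod L N) W₀ (tm L N W₀ a₀ b₀) := isGen_tm ha₀ hb₀
  obtain ⟨φ₀, hφ₀⟩ := exists_eq_mkF_smul ha₀ ξ hξW₀ sL
  obtain ⟨ψ₀, hψ₀⟩ := exists_eq_mkF_smul hb₀ ξ hξW₀ sN
  obtain ⟨θ₀, hθ₀⟩ := exists_eq_mkF_smul hc₀ ξ hξW₀ sT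
  have hφ₀0 : (X.residue ξ).hom φ₀ ≠ 0 :=
    residue_ne_zero_of_mkF_ne_zero ha₀ ξ hξW₀ φ₀ (by rw [← hφ₀]; exact hsL)
  have hψ₀0 : (X.residue ξ).hom ψ₀ ≠ 0 :=
    residue_ne_zero_of_mkF_ne_zero hb₀ ξ hξW₀ ψ₀ (by rw [← hψ₀]; exact hsN)
  have hθ₀0 : (X.residue ξ).hom θ₀ ≠ 0 :=
    residue_ne_zero_of_mkF_ne_zero hc₀ ξ hξW₀ θ₀ (by rw [← hθ₀]; exact hsT)
  refine ⟨(X.residue ξ).hom θ₀ / ((X.residue ξ).hom φ₀ * (X.residue ξ).hom ψ₀),
    div_ne_zero hθ₀0 (mul_ne_zero hφ₀0 hψ₀0), ?_⟩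
  intro x h
  obtain ⟨W, a, b, hxW, ha, hb⟩ := exists_isGen₂ hL hN x
  have hξW : ξ ∈ W := h.mem_open W.2 hxW
  have hξU : ξ ∈ W₀ ⊓ W := ⟨hξW₀, hξW⟩
  obtain ⟨r, hr⟩ := (ha (W₀ ⊓ W) inf_le_right).2 (res L inf_le_left a₀)
  obtain ⟨r', hr'⟩ := (hb (W₀ ⊓ W) inf_le_right).2 (res N inf_le_left b₀)
  simp only [] at hr hr'
  have e1 : L.presheaf.germ W₀ ξ hξW₀ a₀ =
      X.presheaf.germ (W₀ ⊓ W) ξ hξU r • L.presheaf.germ W ξ hξW a := by
    have h0 := congrArg (L.presheaf.germ (W₀ ⊓ W) ξ hξU) hr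
    rw [gsm, germ_res, germ_res] at h0
    exact h0.symm
  have e2 : N.presheaf.germ W₀ ξ hξW₀ b₀ =
      X.presheaf.germ (W₀ ⊓ W) ξ hξU r' • N.presheaf.germ W ξ hξW b := by
    have h0 := congrArg (N.presheaf.germ (W₀ ⊓ W) ξ hξU) hr'
    rw [gsm, germ_res, germ_res] at h0
    exact h0.symm
  have e3 : (CohB1.tensorMod L N).presheaf.germ W₀ ξ hξW₀ (tm L N W₀ a₀ b₀) =
      (X.presheaf.germ (W₀ ⊓ W) ξ hξU r * X.presheaf.germ (W₀ ⊓ W) ξ hξU r') •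
        (CohB1.tensorMod L N).presheaf.germ W ξ hξW (tm L N W a b) := by
    have h1 : res (CohB1.tensorMod L N) (inf_le_left : W₀ ⊓ W ≤ W₀) (tm L N W₀ a₀ b₀) =
        (r * r') • res (CohB1.tensorMod L N) (inf_le_right : W₀ ⊓ W ≤ W) (tm L N W a b) := by
      rw [res_tm, res_tm, ← hr, ← hr', tm_smul_left, tm_smul_right, smul_smul]
    have h0 := congrArg ((CohB1.tensorMod L N).presheaf.germ (W₀ ⊓ W) ξ hξU) h1
    rw [germ_res, gsm, germ_res, map_mul] at h0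
    exact h0
  have hsL' : sL = mkF L ξ ((φ₀ * X.presheaf.germ (W₀ ⊓ W) ξ hξU r) •
      L.presheaf.germ W ξ hξW a) := by
    rw [hφ₀, e1, smul_smul]
  have hsN' : sN = mkF N ξ ((ψ₀ * X.presheaf.germ (W₀ ⊓ W) ξ hξU r') •
      N.presheaf.germ W ξ hξW b) := by
    rw [hψ₀, e2, smul_smul]
  have hsT' : sT = mkF (CohB1.tensorMod L N) ξ
      ((θ₀ * (X.presheaf.germ (W₀ ⊓ W) ξ hξU r * X.presheaf.germ (W₀ ⊓ W) ξ hξU r')) •
        (CohB1.tensorMod L N).presheaf.germ W ξ hξW (tm L N W a b)) := by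
    rw [hθ₀, e3, smul_smul]
  have hρ0 : (X.residue ξ).hom (X.presheaf.germ (W₀ ⊓ W) ξ hξU r) ≠ 0 := by
    have h0 := residue_ne_zero_of_mkF_ne_zero ha ξ hξW _ (by rw [← hsL']; exact hsL)
    rw [map_mul] at h0
    exact right_ne_zero_of_mul h0
  have hρ'0 : (X.residue ξ).hom (X.presheaf.germ (W₀ ⊓ W) ξ hξU r') ≠ 0 := by
    have h0 := residue_ne_zero_of_mkF_ne_zero hb ξ hξW _ (by rw [← hsN']; exact hsN)
    rw [map_mul] at h0
    exact right_ne_zero_of_mul h0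
  rw [hsT', hsL', hsN', secOrdAt_gen (isGen_tm ha hb) x ξ hxW h, secOrdAt_gen ha x ξ hxW h,
    secOrdAt_gen hb x ξ hxW h]
  change Cyc.ordAt x ξ h ((X.residue ξ).hom (θ₀ * (X.presheaf.germ (W₀ ⊓ W) ξ hξU r *
      X.presheaf.germ (W₀ ⊓ W) ξ hξU r'))) =
    Cyc.ordAt x ξ h ((X.residue ξ).hom (φ₀ * X.presheaf.germ (W₀ ⊓ W) ξ hξU r)) +
      Cyc.ordAt x ξ h ((X.residue ξ).hom (ψ₀ * X.presheaf.germ (W₀ ⊓ W) ξ hξU r')) + _
  rw [map_mul, map_mul, map_mul, map_mul,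
    ordAt_mul x ξ h hθ₀0 (mul_ne_zero hρ0 hρ'0), ordAt_mul x ξ h hρ0 hρ'0,
    ordAt_mul x ξ h hφ₀0 hρ0, ordAt_mul x ξ h hψ₀0 hρ'0,
    div_eq_mul_inv, ordAt_mul x ξ h hθ₀0 (inv_ne_zero (mul_ne_zero hφ₀0 hψ₀0)),
    ordAt_inv x ξ h _ (mul_ne_zero hφ₀0 hψ₀0), ordAt_mul x ξ h hφ₀0 hψ₀0]
  ring

theorem S6454_main (X : Scheme.{u}) (δ : X → ℤ) (hX : Cyc.IsSetup X δ) (L N : X.Modules)
    (hL : PicF.IsInvertible L) (hN : PicF.IsInvertible N) (k : ℤ) (α : AlgebraicCycle X ℤ)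
    (hα : α ∈ Cyc.Zk X δ (k + 1)) (sL : (ξ : X) → Cyc.secFibre L ξ) (hsL : ∀ ξ, sL ξ ≠ 0)
    (sN : (ξ : X) → Cyc.secFibre N ξ) (hsN : ∀ ξ, sN ξ ≠ 0)
    (sT : (ξ : X) → Cyc.secFibre (CohB1.tensorMod L N) ξ) (hsT : ∀ ξ, sT ξ ≠ 0)
    (γL γN γT : AlgebraicCycle X ℤ) (hγL : ⇑γL = Cyc.c1CapFun δ L ⇑α sL)
    (hγN : ⇑γN = Cyc.c1CapFun δ N ⇑α sN)
    (hγT : ⇑γT = Cyc.c1CapFun δ (CohB1.tensorMod L N) ⇑α sT) :
    Cyc.RatEquiv δ k (γL + γN) γT := by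
  choose f hf hord using fun ξ =>
    exists_ratio L N hL hN ξ (sL ξ) (hsL ξ) (sN ξ) (hsN ξ) (sT ξ) (hsT ξ)
  unfold Cyc.RatEquiv
  apply ratEquivZero_of_weighted δ k α hα (fun ξ => (f ξ)⁻¹) (fun ξ => inv_ne_zero (hf ξ))
    (γL + γN - γT)
  intro x
  rw [Function.locallyFinsuppWithin.coe_sub, Pi.sub_apply, Function.locallyFinsuppWithin.coe_add,
    Pi.add_apply, hγL, hγN, hγT]
  unfold Cyc.c1CapFun
  have hterm : ∀ ξ, α ξ * Cyc.secDivFun δ (CohB1.tensorMod L N) ξ (sT ξ) x =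
      (α ξ * Cyc.secDivFun δ L ξ (sL ξ) x + α ξ * Cyc.secDivFun δ N ξ (sN ξ) x) +
        α ξ * Cyc.divFun δ ξ (f ξ) x := by
    intro ξ
    unfold Cyc.secDivFun Cyc.divFun
    by_cases hc : ξ ⤳ x ∧ δ x + 1 = δ ξ
    · rw [dif_pos hc, dif_pos hc, dif_pos hc, dif_pos hc, hord ξ x hc.1]
      ring
    · rw [dif_neg hc, dif_neg hc, dif_neg hc, dif_neg hc]
      ring
  have hz : ∀ (M : X.Modules) (t : (ξ : X) → Cyc.secFibre M ξ) (ξ : X),
      ¬ (α ξ ≠ 0 ∧ ξ ⤳ x) → α ξ * Cyc.secDivFun δ M ξ (t ξ) x = 0 := by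
    intro M t ξ hn
    by_cases h0 : α ξ = 0
    · rw [h0, zero_mul]
    · have hsp : ¬ ξ ⤳ x := fun hsp => hn ⟨h0, hsp⟩
      unfold Cyc.secDivFun
      rw [dif_neg (fun hc => hsp hc.1), mul_zero]
  have hfinL := finite_support_of_weighted α x _ (hz L sL)
  have hfinN := finite_support_of_weighted α x _ (hz N sN)
  have hfinLN : (Function.support (fun ξ => α ξ * Cyc.secDivFun δ L ξ (sL ξ) x +
      α ξ * Cyc.secDivFun δ N ξ (sN ξ) x)).Finite := by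
    apply finite_support_of_weighted α x
    intro ξ hn
    rw [hz L sL ξ hn, hz N sN ξ hn, add_zero]
  have hfinF : (Function.support (fun ξ => α ξ * Cyc.divFun δ ξ (f ξ) x)).Finite := by
    apply finite_support_of_weighted α x
    intro ξ hn
    by_cases h0 : α ξ = 0
    · rw [h0, zero_mul]
    · have hsp : ¬ ξ ⤳ x := fun hsp => hn ⟨h0, hsp⟩
      unfold Cyc.divFun
      rw [dif_neg (fun hc => hsp hc.1), mul_zero]
  have hinv : ∀ ξ, α ξ * Cyc.divFun δ ξ (f ξ)⁻¹ x = -(α ξ * Cyc.divFun δ ξ (f ξ) x) := by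
    intro ξ
    rw [divFun_inv δ ξ (f ξ) (hf ξ), mul_neg]
  rw [finsum_congr hterm, finsum_add_distrib hfinLN hfinF, finsum_add_distrib hfinL hfinN,
    finsum_congr hinv, finsum_neg_distrib]
  ring

end Groth.Agent.Helper7.DivFin
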