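import Mathlib
import Groth.Prelude.Def_C1
import Groth.Agent.Lib.Helper7.DivFin.C1Add

set_option linter.style.haveILetI false
set_option linter.unusedVariables false
set_option linter.unusedSectionVars false
set_option autoImplicit false
set_option backward.isDefEq.respectTransparency.types false
set_option synthInstance.maxHeartbeats 400000
set_option maxHeartbeats 1600000

namespace Groth.Agent.Helper7.DivFin

open CategoryTheory CategoryTheory.Limits AlgebraicGeometry IsLocalRing TopologicalSpace Opposite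
open Groth.Agent.Helper1.QcCech Groth.Agent.Helper1.LGen Groth.Agent.Lead.RkSch

universe u

/-! helper7: helper7: the first Chern class cap product is independent of the chosen rational sections (S6456) -/

variable {X : Scheme.{u}}

/-- the ratio of two nonzero rational sections of an invertible module -/
theorem exists_ratio_sections (L : X.Modules) (hL : PicF.IsInvertible L)
    (ξ : X) (s : Cyc.secFibre L ξ) (hs : s ≠ 0) (t : Cyc.secFibre L ξ) (ht : t ≠ 0) :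
    ∃ f : X.residueField ξ, f ≠ 0 ∧ ∀ (x : X) (h : ξ ⤳ x),
      Cyc.secOrdAt L ξ x h s = Cyc.secOrdAt L ξ x h t + Cyc.ordAt x ξ h f := by
  obtain ⟨W₀, a₀, hξW₀, ha₀⟩ := exists_isGen hL ξ
  obtain ⟨φ₀, hφ₀⟩ := exists_eq_mkF_smul ha₀ ξ hξW₀ s
  obtain ⟨ψ₀, hψ₀⟩ := exists_eq_mkF_smul ha₀ ξ hξW₀ t
  have hφ₀0 : (X.residue ξ).hom φ₀ ≠ 0 :=
    residue_ne_zero_of_mkF_ne_zero ha₀ ξ hξW₀ φ₀ (by rw [← hφ₀]; exact hs)
  have hψ₀0 : (X.residue ξ).hom ψ₀ ≠ 0 :=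
    residue_ne_zero_of_mkF_ne_zero ha₀ ξ hξW₀ ψ₀ (by rw [← hψ₀]; exact ht)
  refine ⟨(X.residue ξ).hom φ₀ / (X.residue ξ).hom ψ₀, div_ne_zero hφ₀0 hψ₀0, ?_⟩
  intro x h
  obtain ⟨W, a, hxW, ha⟩ := exists_isGen hL x
  have hξW : ξ ∈ W := h.mem_open W.2 hxW
  have hξU : ξ ∈ W₀ ⊓ W := ⟨hξW₀, hξW⟩
  obtain ⟨r, hr⟩ := (ha (W₀ ⊓ W) inf_le_right).2 (res L inf_le_left a₀)
  simp only [] at hr
  have e1 : L.presheaf.germ W₀ ξ hξW₀ a₀ =
      X.presheaf.germ (W₀ ⊓ W) ξ hξU r • L.presheaf.germ W ξ hξW a := by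
    have h0 := congrArg (L.presheaf.germ (W₀ ⊓ W) ξ hξU) hr
    rw [gsm, germ_res, germ_res] at h0
    exact h0.symm
  have hs' : s = mkF L ξ ((φ₀ * X.presheaf.germ (W₀ ⊓ W) ξ hξU r) •
      L.presheaf.germ W ξ hξW a) := by
    rw [hφ₀, e1, smul_smul]
  have ht' : t = mkF L ξ ((ψ₀ * X.presheaf.germ (W₀ ⊓ W) ξ hξU r) •
      L.presheaf.germ W ξ hξW a) := by
    rw [hψ₀, e1, smul_smul]
  have hρ0 : (X.residue ξ).hom (X.presheaf.germ (W₀ ⊓ W) ξ hξU r) ≠ 0 := by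
    have h0 := residue_ne_zero_of_mkF_ne_zero ha ξ hξW _ (by rw [← hs']; exact hs)
    rw [map_mul] at h0
    exact right_ne_zero_of_mul h0
  rw [hs', ht', secOrdAt_gen ha x ξ hxW h, secOrdAt_gen ha x ξ hxW h]
  change Cyc.ordAt x ξ h ((X.residue ξ).hom (φ₀ * X.presheaf.germ (W₀ ⊓ W) ξ hξU r)) =
    Cyc.ordAt x ξ h ((X.residue ξ).hom (ψ₀ * X.presheaf.germ (W₀ ⊓ W) ξ hξU r)) + _
  rw [map_mul, map_mul, ordAt_mul x ξ h hφ₀0 hρ0, ordAt_mul x ξ h hψ₀0 hρ0,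
    div_eq_mul_inv, ordAt_mul x ξ h hφ₀0 (inv_ne_zero hψ₀0), ordAt_inv x ξ h _ hψ₀0]
  ring

/-- the first Chern class cap product does not depend on the chosen rational sections -/
theorem c1Cap_indep (δ : X → ℤ) (L : X.Modules) (hL : PicF.IsInvertible L) (k : ℤ)
    (α : AlgebraicCycle X ℤ) (hα : α ∈ Cyc.Zk X δ (k + 1))
    (s : (ξ : X) → Cyc.secFibre L ξ) (hs : ∀ ξ, s ξ ≠ 0)
    (t : (ξ : X) → Cyc.secFibre L ξ) (ht : ∀ ξ, t ξ ≠ 0)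
    (γ₁ γ₂ : AlgebraicCycle X ℤ) (h₁ : ⇑γ₁ = Cyc.c1CapFun δ L ⇑α s)
    (h₂ : ⇑γ₂ = Cyc.c1CapFun δ L ⇑α t) : Cyc.RatEquiv δ k γ₁ γ₂ := by
  choose f hf hord using fun ξ => exists_ratio_sections L hL ξ (s ξ) (hs ξ) (t ξ) (ht ξ)
  unfold Cyc.RatEquiv
  apply ratEquivZero_of_weighted δ k α hα f hf (γ₁ - γ₂)
  intro x
  rw [Function.locallyFinsuppWithin.coe_sub, Pi.sub_apply, h₁, h₂]
  unfold Cyc.c1CapFun
  have hterm : ∀ ξ, α ξ * Cyc.secDivFun δ L ξ (s ξ) x =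
      α ξ * Cyc.secDivFun δ L ξ (t ξ) x + α ξ * Cyc.divFun δ ξ (f ξ) x := by
    intro ξ
    unfold Cyc.secDivFun Cyc.divFun
    by_cases hc : ξ ⤳ x ∧ δ x + 1 = δ ξ
    · rw [dif_pos hc, dif_pos hc, dif_pos hc, hord ξ x hc.1]
      ring
    · rw [dif_neg hc, dif_neg hc, dif_neg hc]
      ring
  have hz : ∀ (u : (ξ : X) → Cyc.secFibre L ξ) (ξ : X),
      ¬ (α ξ ≠ 0 ∧ ξ ⤳ x) → α ξ * Cyc.secDivFun δ L ξ (u ξ) x = 0 := by
    intro u ξ hn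
    by_cases h0 : α ξ = 0
    · rw [h0, zero_mul]
    · have hsp : ¬ ξ ⤳ x := fun hsp => hn ⟨h0, hsp⟩
      unfold Cyc.secDivFun
      rw [dif_neg (fun hc => hsp hc.1), mul_zero]
  have hfint := finite_support_of_weighted α x _ (hz t)
  have hfinF : (Function.support (fun ξ => α ξ * Cyc.divFun δ ξ (f ξ) x)).Finite := by
    apply finite_support_of_weighted α x
    intro ξ hn
    by_cases h0 : α ξ = 0
    · rw [h0, zero_mul]
    · have hsp : ¬ ξ ⤳ x := fun hsp => hn ⟨h0, hsp⟩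
      unfold Cyc.divFun
      rw [dif_neg (fun hc => hsp hc.1), mul_zero]
  rw [finsum_congr hterm, finsum_add_distrib hfint hfinF]
  ring

theorem gysinChoice_ne_zero (L : X.Modules) (s : L.presheaf.obj (Opposite.op ⊤))
    (w : (ξ : X) → Cyc.secFibre L ξ) (hw : ∀ ξ, w ξ ≠ 0) (ξ : X) :
    Cyc.gysinChoice L s w ξ ≠ 0 := by
  unfold Cyc.gysinChoice
  split_ifs with h
  · exact h
  · exact hw ξ

theorem S6456_main (X D : Scheme.{u}) (δ : X → ℤ) (hX : Cyc.IsSetup X δ) (L : X.Modules)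
    (hL : PicF.IsInvertible L) (s : L.presheaf.obj (Opposite.op ⊤)) (i : D ⟶ X)
    [IsClosedImmersion i] (hD : Cyc.IsZeroSchemeOf i L s) (k : ℤ) (α : AlgebraicCycle X ℤ)
    (hα : α ∈ Cyc.Zk X δ (k + 1)) (w : (ξ : X) → Cyc.secFibre L ξ) (hw : ∀ ξ, w ξ ≠ 0)
    (t : (ξ : X) → Cyc.secFibre L ξ) (ht : ∀ ξ, t ξ ≠ 0) (γ₁ γ₂ : AlgebraicCycle X ℤ)
    (h₁ : ⇑γ₁ = Cyc.c1CapFun δ L ⇑α (Cyc.gysinChoice L s w))
    (h₂ : ⇑γ₂ = Cyc.c1CapFun δ L ⇑α t) : Cyc.RatEquiv δ k γ₁ γ₂ :=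
  c1Cap_indep δ L hL k α hα (Cyc.gysinChoice L s w) (gysinChoice_ne_zero L s w hw) t ht γ₁ γ₂
    h₁ h₂

end Groth.Agent.Helper7.DivFin
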