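import Mathlib
import Groth.Prelude.Def_C1
import Groth.Agent.Lib.Helper7.DivFin.C1Indep
import Groth.Agent.Lib.Helper1.PullGen2

set_option linter.style.haveILetI false
set_option linter.unusedVariables false
set_option linter.unusedSectionVars false
set_option autoImplicit false
set_option backward.isDefEq.respectTransparency.types false
set_option synthInstance.maxHeartbeats 400000
set_option maxHeartbeats 1600000

namespace Groth.Agent.Helper7.DivFin

open CategoryTheory CategoryTheory.Limits AlgebraicGeometry IsLocalRing TopologicalSpace Opposite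
open Groth.Agent.Helper1.QcCech Groth.Agent.Helper1.LGen Groth.Agent.Lead.RkSch
open Groth.Agent.Helper1.PullSec Groth.Agent.Helper1.PullGen

universe u

/-! helper7: helper7: pullback of rational sections along closed immersions keeps orders; self-intersection formula for the Gysin map (S6465) -/

section Pull

variable {D X : Scheme.{u}} (i : D ⟶ X)

/-- germ of a pulled back section scaled by a function -/
theorem germ_σ_smul (L : X.Modules) {W : X.Opens} (a : Γ(L, W)) (r : Γ(X, W)) (d : D)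
    (hd : i d ∈ W) :
    ((Scheme.Modules.pullback i).obj L).presheaf.germ (i ⁻¹ᵁ W) d hd (σ i L W (r • a)) =
      (i.stalkMap d).hom (X.presheaf.germ W (i d) hd r) •
        ((Scheme.Modules.pullback i).obj L).presheaf.germ (i ⁻¹ᵁ W) d hd (σ i L W a) := by
  rw [σ_smul, gsm]
  congr 1
  exact (Scheme.Hom.germ_stalkMap_apply i W d hd r).symm

theorem residue_stalkMap (d' : D) (φ : X.presheaf.stalk (i d')) :
    (D.residue d').hom ((i.stalkMap d').hom φ) =
      (i.residueFieldMap d').hom ((X.residue (i d')).hom φ) := by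
  have h2 := DFunLike.congr_fun (CommRingCat.hom_ext_iff.mp
    (Scheme.residue_residueFieldMap i d')) φ
  simp only [CommRingCat.hom_comp, RingHom.comp_apply] at h2
  exact h2.symm

/-- a nonzero rational section of `L` at `i d'` pulls back to a nonzero rational section of
the pulled back module with the same orders -/
theorem exists_pull_section [IsClosedImmersion i] (L : X.Modules) (hL : PicF.IsInvertible L)
    (d' : D) (w : Cyc.secFibre L (i d')) (hw : w ≠ 0) :
    ∃ τ : Cyc.secFibre ((Scheme.Modules.pullback i).obj L) d', τ ≠ 0 ∧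
      ∀ (d : D) (h : d' ⤳ d) (h' : i d' ⤳ i d),
        Cyc.secOrdAt ((Scheme.Modules.pullback i).obj L) d' d h τ =
          Cyc.secOrdAt L (i d') (i d) h' w := by
  obtain ⟨W₀, a₀, hW₀, ha₀⟩ := exists_isGen hL (i d')
  obtain ⟨φ₀, hφ₀⟩ := exists_eq_mkF_smul ha₀ (i d') hW₀ w
  have hφ₀0 : (X.residue (i d')).hom φ₀ ≠ 0 :=
    residue_ne_zero_of_mkF_ne_zero ha₀ _ hW₀ φ₀ (by rw [← hφ₀]; exact hw)
  have hb₀ : IsGen ((Scheme.Modules.pullback i).obj L) (i ⁻¹ᵁ W₀) (σ i L W₀ a₀) := isGen_σ i ha₀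
  have hd'W₀ : d' ∈ i ⁻¹ᵁ W₀ := hW₀
  refine ⟨mkF ((Scheme.Modules.pullback i).obj L) d' ((i.stalkMap d').hom φ₀ •
    ((Scheme.Modules.pullback i).obj L).presheaf.germ (i ⁻¹ᵁ W₀) d' hd'W₀ (σ i L W₀ a₀)), ?_, ?_⟩
  · intro h0
    obtain ⟨hξ0, hξ1⟩ := (freeAt_iff (σ i L W₀ a₀) d' hd'W₀).1 (freeAt_of_isGen hb₀ d' hd'W₀)
    rw [mkF_smul_eq_zero_iff hξ0 hξ1] at h0
    have h1 : (D.residue d').hom ((i.stalkMap d').hom φ₀) = 0 :=
      (IsLocalRing.residue_eq_zero_iff _).2 h0
    rw [residue_stalkMap] at h1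
    exact hφ₀0 ((map_eq_zero_iff _ (i.residueFieldMap d').hom.injective).1 h1)
  · intro d h h'
    obtain ⟨W, a, hdW, ha⟩ := exists_isGen hL (i d)
    have hd'W : i d' ∈ W := h'.mem_open W.2 hdW
    have hU : i d' ∈ W₀ ⊓ W := ⟨hW₀, hd'W⟩
    obtain ⟨r, hr⟩ := (ha (W₀ ⊓ W) inf_le_right).2 (res L inf_le_left a₀)
    simp only [] at hr
    have e1 : L.presheaf.germ W₀ (i d') hW₀ a₀ =
        X.presheaf.germ (W₀ ⊓ W) (i d') hU r • L.presheaf.germ W (i d') hd'W a := by
      have h0 := congrArg (L.presheaf.germ (W₀ ⊓ W) (i d') hU) hr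
      rw [gsm, germ_res, germ_res] at h0
      exact h0.symm
    have e1' : ((Scheme.Modules.pullback i).obj L).presheaf.germ (i ⁻¹ᵁ W₀) d' hd'W₀
          (σ i L W₀ a₀) =
        (i.stalkMap d').hom (X.presheaf.germ (W₀ ⊓ W) (i d') hU r) •
          ((Scheme.Modules.pullback i).obj L).presheaf.germ (i ⁻¹ᵁ W) d' hd'W (σ i L W a) := by
      have h1 : σ i L (W₀ ⊓ W) (res L inf_le_left a₀) =
          σ i L (W₀ ⊓ W) (r • res L inf_le_right a) := by rw [hr]
      have h2 := congrArg (((Scheme.Modules.pullback i).obj L).presheaf.germ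
        (i ⁻¹ᵁ (W₀ ⊓ W)) d' hU) h1
      rw [germ_σ_smul, ← σ_res i L inf_le_left a₀, ← σ_res i L inf_le_right a, germ_res,
        germ_res] at h2
      exact h2
    have hτ : mkF ((Scheme.Modules.pullback i).obj L) d' ((i.stalkMap d').hom φ₀ •
        ((Scheme.Modules.pullback i).obj L).presheaf.germ (i ⁻¹ᵁ W₀) d' hd'W₀ (σ i L W₀ a₀)) =
        mkF ((Scheme.Modules.pullback i).obj L) d'
          ((i.stalkMap d').hom (φ₀ * X.presheaf.germ (W₀ ⊓ W) (i d') hU r) •
            ((Scheme.Modules.pullback i).obj L).presheaf.germ (i ⁻¹ᵁ W) d' hd'W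
              (σ i L W a)) := by
      rw [e1', smul_smul, ← map_mul]
    have hw' : w = mkF L (i d') ((φ₀ * X.presheaf.germ (W₀ ⊓ W) (i d') hU r) •
        L.presheaf.germ W (i d') hd'W a) := by
      rw [hφ₀, e1, smul_smul]
    have hdW' : d ∈ i ⁻¹ᵁ W := hdW
    rw [hτ, hw', secOrdAt_gen (isGen_σ i ha) d d' hdW' h, secOrdAt_gen ha (i d) (i d') hdW h']
    change Cyc.ordAt d d' h ((D.residue d').hom ((i.stalkMap d').hom
      (φ₀ * X.presheaf.germ (W₀ ⊓ W) (i d') hU r))) = _
    rw [residue_stalkMap]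
    exact ordAt_transport i d d' h h' (i.stalkMap_surjective d)
      (residueFieldMap_bijective_of_surjective i d' (i.stalkMap_surjective d')) _

end Pull

theorem S6465_main (X D : Scheme.{u}) (δ : X → ℤ) (hX : Cyc.IsSetup X δ) (L : X.Modules)
    (hL : PicF.IsInvertible L) (s : L.presheaf.obj (Opposite.op ⊤)) (i : D ⟶ X)
    [IsClosedImmersion i] (hD : Cyc.IsZeroSchemeOf i L s) (k : ℤ) (α : AlgebraicCycle D ℤ)
    (hα : α ∈ Cyc.Zk D (fun d => δ (i d)) k) (w : (ξ : X) → Cyc.secFibre L ξ)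
    (hw : ∀ ξ, w ξ ≠ 0)
    (t : (d : D) → Cyc.secFibre ((Scheme.Modules.pullback i).obj L) d) (ht : ∀ d, t d ≠ 0)
    (ζ₁ ζ₂ : AlgebraicCycle D ℤ)
    (h₁ : ∀ d, ζ₁ d = Cyc.c1CapFun δ L ⇑(AlgebraicCycle.map i (fun d => δ (i d)) δ α)
      (Cyc.gysinChoice L s w) (i d))
    (h₂ : ⇑ζ₂ = Cyc.c1CapFun (fun d => δ (i d)) ((Scheme.Modules.pullback i).obj L) ⇑α t) :
    Cyc.RatEquiv (fun d => δ (i d)) (k - 1) ζ₁ ζ₂ := by
  have hinj : Function.Injective i := i.isClosedEmbedding.injective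
  choose τ hτ0 hτ using fun d' => exists_pull_section i L hL d' (w (i d')) (hw (i d'))
  have hM : PicF.IsInvertible ((Scheme.Modules.pullback i).obj L) := isInvertible_pullback i hL
  have hα' : α ∈ Cyc.Zk D (fun d => δ (i d)) (k - 1 + 1) := by
    rw [sub_add_cancel]
    exact hα
  have hre : ∀ G : X → ℤ, Function.support G ⊆ Set.range i →
      ∑ᶠ ξ, G ξ = ∑ᶠ d', G (i d') := by
    intro G hsupp
    rw [← finsum_mem_range (f := G) hinj, finsum_mem_def, Set.indicator_eq_self.mpr hsupp]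
  have h₁' : ⇑ζ₁ =
      Cyc.c1CapFun (fun d => δ (i d)) ((Scheme.Modules.pullback i).obj L) ⇑α τ := by
    funext d
    rw [h₁ d]
    unfold Cyc.c1CapFun
    refine (hre _ ?_).trans ?_
    · intro ξ hξ
      by_contra hn
      apply hξ
      dsimp only
      rw [map_closedImmersion_apply_of_notMem i (fun d => δ (i d)) δ α ξ hn, zero_mul]
    · apply finsum_congr
      intro d'
      dsimp only
      rw [map_closedImmersion_apply i (fun d => δ (i d)) δ (fun _ => rfl) α d']
      congr 1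
      have hgc : Cyc.gysinChoice L s w (i d') = w (i d') := by
        unfold Cyc.gysinChoice
        have hz : (Submodule.Quotient.mk ((L.presheaf.germ ⊤ (i d') trivial) s) :
            Cyc.secFibre L (i d')) = 0 := by
          have hmem : i d' ∈ Set.range i := ⟨d', rfl⟩
          rw [hD.1] at hmem
          exact hmem
        rw [if_neg (not_not.mpr hz)]
      rw [hgc]
      unfold Cyc.secDivFun
      by_cases hc : d' ⤳ d ∧ δ (i d) + 1 = δ (i d')
      · have hc' : i d' ⤳ i d ∧ δ (i d) + 1 = δ (i d') := ⟨hc.1.map i.continuous, hc.2⟩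
        rw [dif_pos hc, dif_pos hc']
        exact (hτ d' d hc.1 hc'.1).symm
      · have hc' : ¬ (i d' ⤳ i d ∧ δ (i d) + 1 = δ (i d')) := fun h =>
          hc ⟨i.isClosedEmbedding.toIsEmbedding.toIsInducing.specializes_iff.mp h.1, h.2⟩
        rw [dif_neg hc, dif_neg hc']
  exact c1Cap_indep (fun d => δ (i d)) _ hM (k - 1) α hα' τ hτ0 t ht ζ₁ ζ₂ h₁' h₂

end Groth.Agent.Helper7.DivFin
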