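import Mathlib
import Groth.Prelude.Def_Cyc
import Groth.Agent.Lib.Helper7.DivFin.MV

set_option linter.style.haveILetI false
set_option linter.unusedVariables false
set_option linter.unusedSectionVars false
set_option autoImplicit false
set_option backward.isDefEq.respectTransparency.types false
set_option synthInstance.maxHeartbeats 400000
set_option maxHeartbeats 1600000

namespace Groth.Agent.Helper7.DivFin

open CategoryTheory CategoryTheory.Limits AlgebraicGeometry IsLocalRing TopologicalSpace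

universe u

/-! helper7: helper7: Mayer-Vietoris for cycles modulo rational equivalence (exactness in the middle), S1918 -/

/-- Mayer-Vietoris for cycles modulo rational equivalence: exactness in the middle -/
theorem mv_main (X : Scheme.{u}) [IsLocallyNoetherian X] (δ : X → ℤ) (hδ : Cyc.IsDimFun X δ)
    {X₁ X₂ Y : Scheme.{u}} (i₁ : X₁ ⟶ X) (i₂ : X₂ ⟶ X) [IsClosedImmersion i₁]
    [IsClosedImmersion i₂] (hcov : Set.range i₁ ∪ Set.range i₂ = Set.univ)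
    (j₁ : Y ⟶ X₁) (j₂ : Y ⟶ X₂) [IsClosedImmersion j₁] [IsClosedImmersion j₂]
    (hcomm : j₁ ≫ i₁ = j₂ ≫ i₂) (hY : Set.range (j₁ ≫ i₁) = Set.range i₁ ∩ Set.range i₂)
    (k : ℤ) (α₁ : AlgebraicCycle X₁ ℤ) (α₂ : AlgebraicCycle X₂ ℤ)
    (h₁ : α₁ ∈ Cyc.Zk X₁ (fun x => δ (i₁ x)) k) (h₂ : α₂ ∈ Cyc.Zk X₂ (fun x => δ (i₂ x)) k)
    (h : Cyc.RatEquivZero δ k (AlgebraicCycle.map i₁ (fun x => δ (i₁ x)) δ α₁ -
      AlgebraicCycle.map i₂ (fun x => δ (i₂ x)) δ α₂)) :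
    ∃ β : AlgebraicCycle Y ℤ, β ∈ Cyc.Zk Y (fun y => δ (i₁ (j₁ y))) k ∧
      Cyc.RatEquivZero (fun x => δ (i₁ x)) k
        (α₁ - AlgebraicCycle.map j₁ (fun y => δ (i₁ (j₁ y))) (fun x => δ (i₁ x)) β) ∧
      Cyc.RatEquivZero (fun x => δ (i₂ x)) k
        (α₂ - AlgebraicCycle.map j₂ (fun y => δ (i₁ (j₁ y))) (fun x => δ (i₂ x)) β) := by
  classical
  obtain ⟨ι, ξ, f, hδξ, hf, hlf, hsum⟩ := h
  have hinj₁ : Function.Injective i₁ := i₁.isClosedEmbedding.injective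
  have hinj₂ : Function.Injective i₂ := i₂.isClosedEmbedding.injective
  have hinjj₁ : Function.Injective j₁ := j₁.isClosedEmbedding.injective
  have hinjj₂ : Function.Injective j₂ := j₂.isClosedEmbedding.injective
  have hpt : ∀ y : Y, i₁ (j₁ y) = i₂ (j₂ y) := by
    intro y
    have h0 := congrArg (fun φ : Y ⟶ X => φ y) hcomm
    simpa using h0
  let S : Set ι := {a | ξ a ∈ Set.range i₁}
  have hlf1 : ∀ x : X, ∃ U : Set X, IsOpen U ∧ x ∈ U ∧
      {a : S | (closure {ξ a.1} ∩ U).Nonempty}.Finite := by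
    intro x
    obtain ⟨U, hU, hxU, hfin⟩ := hlf x
    refine ⟨U, hU, hxU, ?_⟩
    exact Set.Finite.preimage (f := (Subtype.val : S → ι)) Subtype.val_injective.injOn hfin
  have hlf2 : ∀ x : X, ∃ U : Set X, IsOpen U ∧ x ∈ U ∧
      {a : (Sᶜ : Set ι) | (closure {ξ a.1} ∩ U).Nonempty}.Finite := by
    intro x
    obtain ⟨U, hU, hxU, hfin⟩ := hlf x
    refine ⟨U, hU, hxU, ?_⟩
    exact Set.Finite.preimage (f := (Subtype.val : (Sᶜ : Set ι) → ι))
      Subtype.val_injective.injOn hfin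
  have hr1 : ∀ a : S, ξ a.1 ∈ Set.range i₁ := fun a => a.2
  have hr2 : ∀ a : (Sᶜ : Set ι), ξ a.1 ∈ Set.range i₂ := by
    intro a
    have hmem : ξ a.1 ∈ Set.range i₁ ∪ Set.range i₂ := by
      rw [hcov]
      exact Set.mem_univ _
    rcases hmem with hm | hm
    · exact absurd hm a.2
    · exact hm
  obtain ⟨D1, hD1⟩ := exists_cycle_of_family' δ hδ S (fun a => ξ a.1) (fun a => f a.1)
    (fun a => hf a.1) hlf1
  obtain ⟨D2, hD2⟩ := exists_cycle_of_family' δ hδ (Sᶜ : Set ι) (fun a => ξ a.1)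
    (fun a => f a.1) (fun a => hf a.1) hlf2
  have hD1k : D1 ∈ Cyc.Zk X δ k :=
    mem_Zk_of_family δ k S (fun a => ξ a.1) (fun a => f a.1) (fun a => hδξ a.1) D1 hD1
  have hM1 : ∀ x₁, AlgebraicCycle.map i₁ (fun x => δ (i₁ x)) δ α₁ (i₁ x₁) = α₁ x₁ :=
    fun x₁ => map_closedImmersion_apply i₁ _ _ (fun _ => rfl) α₁ x₁
  have hM1' : ∀ y, y ∉ Set.range i₁ →
      AlgebraicCycle.map i₁ (fun x => δ (i₁ x)) δ α₁ y = 0 :=
    fun y hy => map_closedImmersion_apply_of_notMem i₁ _ _ α₁ y hy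
  have hM2 : ∀ x₂, AlgebraicCycle.map i₂ (fun x => δ (i₂ x)) δ α₂ (i₂ x₂) = α₂ x₂ :=
    fun x₂ => map_closedImmersion_apply i₂ _ _ (fun _ => rfl) α₂ x₂
  have hM2' : ∀ y, y ∉ Set.range i₂ →
      AlgebraicCycle.map i₂ (fun x => δ (i₂ x)) δ α₂ y = 0 :=
    fun y hy => map_closedImmersion_apply_of_notMem i₂ _ _ α₂ y hy
  have hP : ∀ x, AlgebraicCycle.map i₁ (fun x => δ (i₁ x)) δ α₁ x -
      AlgebraicCycle.map i₂ (fun x => δ (i₂ x)) δ α₂ x = D1 x + D2 x := by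
    intro x
    have h0 := hsum x
    rw [Function.locallyFinsuppWithin.coe_sub, Pi.sub_apply] at h0
    rw [h0, hD1, hD2]
    exact finsum_split S _ (finite_support_family δ ι ξ f hlf x)
  have hD1z : ∀ y, y ∉ Set.range i₁ → D1 y = 0 := by
    intro y hy
    rw [hD1]
    apply finsum_eq_zero_of_forall_eq_zero
    intro a
    exact divFun_eq_zero_of_notMem_range i₁ δ (ξ a.1) (hr1 a) (f a.1) y hy
  have hD2z : ∀ y, y ∉ Set.range i₂ → D2 y = 0 := by
    intro y hy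
    rw [hD2]
    apply finsum_eq_zero_of_forall_eq_zero
    intro a
    exact divFun_eq_zero_of_notMem_range i₂ δ (ξ a.1) (hr2 a) (f a.1) y hy
  have hE1 : ∀ x₁ : X₁, i₁ x₁ ∉ Set.range i₂ → α₁ x₁ - D1 (i₁ x₁) = 0 := by
    intro x₁ hx
    have h0 := hP (i₁ x₁)
    rw [hM1, hM2' _ hx, hD2z _ hx] at h0
    omega
  have hE2 : ∀ x₂ : X₂, i₂ x₂ ∉ Set.range i₁ → α₂ x₂ + D2 (i₂ x₂) = 0 := by
    intro x₂ hx
    have h0 := hP (i₂ x₂)
    rw [hM2, hM1' _ hx, hD1z _ hx] at h0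
    omega
  have hE12 : ∀ y : Y, α₁ (j₁ y) - D1 (i₁ (j₁ y)) = α₂ (j₂ y) + D2 (i₂ (j₂ y)) := by
    intro y
    have h0 := hP (i₁ (j₁ y))
    rw [hM1] at h0
    rw [hpt y] at h0 ⊢
    rw [hM2] at h0
    omega
  let E1 : AlgebraicCycle X₁ ℤ := α₁ - comapCycle i₁ hinj₁ D1
  let β : AlgebraicCycle Y ℤ := comapCycle j₁ hinjj₁ E1
  have hβ : ∀ y, β y = α₁ (j₁ y) - D1 (i₁ (j₁ y)) := by
    intro y
    change (α₁ - comapCycle i₁ hinj₁ D1) (j₁ y) = _
    rw [Function.locallyFinsuppWithin.coe_sub, Pi.sub_apply]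
    rfl
  refine ⟨β, ?_, ?_, ?_⟩
  · intro y hy
    rw [hβ, h₁ (j₁ y) hy, hD1k (i₁ (j₁ y)) hy, sub_zero]
  · have heq : α₁ - AlgebraicCycle.map j₁ (fun y => δ (i₁ (j₁ y))) (fun x => δ (i₁ x)) β =
        comapCycle i₁ hinj₁ D1 := by
      ext x₁
      rw [Function.locallyFinsuppWithin.coe_sub, Pi.sub_apply]
      change _ = D1 (i₁ x₁)
      by_cases hx : x₁ ∈ Set.range j₁
      · obtain ⟨y, rfl⟩ := hx
        rw [map_closedImmersion_apply j₁ (fun y => δ (i₁ (j₁ y))) (fun x => δ (i₁ x))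
          (fun _ => rfl) β y, hβ]
        ring
      · rw [map_closedImmersion_apply_of_notMem j₁ (fun y => δ (i₁ (j₁ y))) (fun x => δ (i₁ x))
          β x₁ hx, sub_zero]
        have hx' : i₁ x₁ ∉ Set.range i₂ := by
          intro hmem
          have h0 : i₁ x₁ ∈ Set.range (j₁ ≫ i₁) := by
            rw [hY]
            exact ⟨⟨x₁, rfl⟩, hmem⟩
          obtain ⟨y, hy⟩ := h0
          apply hx
          refine ⟨y, hinj₁ ?_⟩
          simpa using hy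
        have h0 := hE1 x₁ hx'
        omega
    rw [heq]
    exact ratEquivZero_comap i₁ δ k S (fun a => ξ a.1) (fun a => f a.1) (fun a => hδξ a.1)
      (fun a => hf a.1) hlf1 hr1 D1 hD1 _ (fun z => rfl)
  · have heq : α₂ - AlgebraicCycle.map j₂ (fun y => δ (i₁ (j₁ y))) (fun x => δ (i₂ x)) β =
        -comapCycle i₂ hinj₂ D2 := by
      ext x₂
      rw [Function.locallyFinsuppWithin.coe_sub, Pi.sub_apply,
        Function.locallyFinsuppWithin.coe_neg, Pi.neg_apply]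
      change _ = -D2 (i₂ x₂)
      by_cases hx : x₂ ∈ Set.range j₂
      · obtain ⟨y, rfl⟩ := hx
        rw [map_closedImmersion_apply j₂ (fun y => δ (i₁ (j₁ y))) (fun x => δ (i₂ x))
          (fun y => congrArg δ (hpt y)) β y, hβ, hE12 y]
        ring
      · rw [map_closedImmersion_apply_of_notMem j₂ (fun y => δ (i₁ (j₁ y))) (fun x => δ (i₂ x))
          β x₂ hx, sub_zero]
        have hx' : i₂ x₂ ∉ Set.range i₁ := by
          intro hmem
          have h0 : i₂ x₂ ∈ Set.range (j₁ ≫ i₁) := by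
            rw [hY]
            exact ⟨hmem, ⟨x₂, rfl⟩⟩
          obtain ⟨y, hy⟩ := h0
          apply hx
          refine ⟨y, hinj₂ ?_⟩
          rw [← hpt y]
          simpa using hy
        have h0 := hE2 x₂ hx'
        omega
    rw [heq]
    exact ratEquivZero_neg _ _ _ (ratEquivZero_comap i₂ δ k (Sᶜ : Set ι) (fun a => ξ a.1)
      (fun a => f a.1) (fun a => hδξ a.1) (fun a => hf a.1) hlf2 hr2 D2 hD2 _ (fun z => rfl))

theorem S1918_main (X : Scheme.{u}) (δ : X → ℤ) (hX : Cyc.IsSetup X δ) (X₁ X₂ : Scheme.{u})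
    (i₁ : X₁ ⟶ X) (i₂ : X₂ ⟶ X) [IsClosedImmersion i₁] [IsClosedImmersion i₂]
    (hcov : Set.range ⇑i₁ ∪ Set.range ⇑i₂ = Set.univ) (k : ℤ) (α₁ : AlgebraicCycle X₁ ℤ)
    (α₂ : AlgebraicCycle X₂ ℤ) (h₁ : α₁ ∈ Cyc.Zk X₁ (fun x => δ (i₁ x)) k)
    (h₂ : α₂ ∈ Cyc.Zk X₂ (fun x => δ (i₂ x)) k)
    (h : Cyc.RatEquiv δ k (AlgebraicCycle.map i₁ (fun x => δ (i₁ x)) δ α₁)
      (AlgebraicCycle.map i₂ (fun x => δ (i₂ x)) δ α₂)) :
    ∃ β : AlgebraicCycle (pullback i₁ i₂) ℤ,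
      β ∈ Cyc.Zk (pullback i₁ i₂) (fun z => δ (i₁ (pullback.fst i₁ i₂ z))) k ∧
      Cyc.RatEquiv (fun x => δ (i₁ x)) k α₁
        (AlgebraicCycle.map (pullback.fst i₁ i₂) (fun z => δ (i₁ (pullback.fst i₁ i₂ z)))
          (fun x => δ (i₁ x)) β) ∧
      Cyc.RatEquiv (fun x => δ (i₂ x)) k α₂
        (AlgebraicCycle.map (pullback.snd i₁ i₂) (fun z => δ (i₁ (pullback.fst i₁ i₂ z)))
          (fun x => δ (i₂ x)) β) := by
  haveI := hX.1
  exact mv_main X δ hX.2.2 i₁ i₂ hcov (pullback.fst i₁ i₂) (pullback.snd i₁ i₂)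
    pullback.condition (Scheme.Pullback.range_fst_comp i₁ i₂) k α₁ α₂ h₁ h₂ h

end Groth.Agent.Helper7.DivFin
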