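import Mathlib
import Groth.Prelude.Def_Cyc
import Groth.Agent.Lib.Helper7.DivFin.MV2
import Groth.Agent.Lib.Helper4.LocUC1
import Groth.Agent.Lib.Helper4.DimEq2

set_option linter.style.haveILetI false
set_option linter.unusedVariables false
set_option linter.unusedSectionVars false
set_option autoImplicit false
set_option backward.isDefEq.respectTransparency.types false
set_option synthInstance.maxHeartbeats 400000
set_option maxHeartbeats 1600000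

namespace Groth.Agent.Helper7.DivFin

open CategoryTheory CategoryTheory.Limits AlgebraicGeometry IsLocalRing TopologicalSpace

universe u

/-! helper7: helper7: Mayer-Vietoris for cycles on schemes of finite type over a field (S19017) -/

theorem isField_stalk_spec_field (k : Type u) [Field k] (x : Spec (CommRingCat.of k)) :
    IsField ((Spec (CommRingCat.of k)).presheaf.stalk x) := by
  rw [IsLocalRing.isField_iff_maximalIdeal_eq]
  have hV : IsAffineOpen (⊤ : (Spec (CommRingCat.of k)).Opens) := isAffineOpen_top _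
  have hx : x ∈ (⊤ : (Spec (CommRingCat.of k)).Opens) := trivial
  rw [Groth.Agent.Helper7.CycLim.maximalIdeal_eq_map_germ hV ⟨x, hx⟩]
  have hA : IsField Γ(Spec (CommRingCat.of k), ⊤) :=
    MulEquiv.isField (Field.toIsField k)
      (Scheme.ΓSpecIso (CommRingCat.of k)).commRingCatIsoToRingEquiv.toMulEquiv
  have hP : (hV.primeIdealOf ⟨x, hx⟩).asIdeal = ⊥ := by
    rw [eq_bot_iff]
    intro a ha
    by_contra hne
    have hne' : a ≠ 0 := fun h0 => hne (Ideal.mem_bot.mpr h0)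
    obtain ⟨b, hb⟩ := hA.mul_inv_cancel hne'
    have h1 : (1 : Γ(Spec (CommRingCat.of k), ⊤)) ∈ (hV.primeIdealOf ⟨x, hx⟩).asIdeal := by
      rw [← hb]
      exact Ideal.mul_mem_right b _ ha
    exact (hV.primeIdealOf ⟨x, hx⟩).isPrime.ne_top ((Ideal.eq_top_iff_one _).mpr h1)
  rw [hP, Ideal.map_bot]

theorem isSetup_spec_field (k : Type u) [Field k] :
    Cyc.IsSetup (Spec (CommRingCat.of k)) (fun _ => 0) := by
  refine ⟨inferInstance, ?_, ?_⟩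
  · intro x
    letI := (isField_stalk_spec_field k x).toField
    exact Groth.Agent.Lib.Helper4.LocUC1.isUniversallyCatenary_field _
  · intro x y hxy hne
    exact absurd (Subsingleton.elim x y) hne

/-- Mayer-Vietoris: surjectivity on cycles -/
theorem mv_surj {X X₁ X₂ : Scheme.{u}} (δ : X → ℤ) (i₁ : X₁ ⟶ X) (i₂ : X₂ ⟶ X)
    [IsClosedImmersion i₁] [IsClosedImmersion i₂]
    (hcov : Set.range i₁ ∪ Set.range i₂ = Set.univ) (n : ℤ) (α : AlgebraicCycle X ℤ)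
    (hα : α ∈ Cyc.Zk X δ n) :
    ∃ (α₁ : AlgebraicCycle X₁ ℤ) (α₂ : AlgebraicCycle X₂ ℤ),
      α₁ ∈ Cyc.Zk X₁ (fun x => δ (i₁ x)) n ∧ α₂ ∈ Cyc.Zk X₂ (fun x => δ (i₂ x)) n ∧
      α = AlgebraicCycle.map i₁ (fun x => δ (i₁ x)) δ α₁ +
        AlgebraicCycle.map i₂ (fun x => δ (i₂ x)) δ α₂ := by
  classical
  have hinj₁ : Function.Injective i₁ := i₁.isClosedEmbedding.injective
  have hinj₂ : Function.Injective i₂ := i₂.isClosedEmbedding.injective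
  let c₂ : AlgebraicCycle X₂ ℤ := comapCycle i₂ hinj₂ α
  let α₂ : AlgebraicCycle X₂ ℤ :=
    { toFun := fun x₂ => if i₂ x₂ ∈ Set.range i₁ then 0 else α (i₂ x₂)
      supportWithinDomain' := Set.subset_univ _
      supportLocallyFiniteWithinDomain' := fun z hz => by
        obtain ⟨t, ht, hfin⟩ := c₂.supportLocallyFiniteWithinDomain z hz
        refine ⟨t, ht, hfin.subset ?_⟩
        rintro x ⟨hxt, hx⟩
        refine ⟨hxt, ?_⟩
        rw [Function.mem_support] at hx ⊢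
        intro h0
        apply hx
        have h0' : α (i₂ x) = 0 := h0
        change (if i₂ x ∈ Set.range i₁ then 0 else α (i₂ x)) = 0
        rw [h0', ite_self] }
  have hα₂ : ∀ x₂, α₂ x₂ = if i₂ x₂ ∈ Set.range i₁ then 0 else α (i₂ x₂) := fun _ => rfl
  refine ⟨comapCycle i₁ hinj₁ α, α₂, ?_, ?_, ?_⟩
  · intro x hx
    exact hα (i₁ x) hx
  · intro x hx
    rw [hα₂]
    split_ifs
    · rfl
    · exact hα (i₂ x) hx
  · ext y
    rw [Function.locallyFinsuppWithin.coe_add, Pi.add_apply]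
    by_cases hy : y ∈ Set.range i₁
    · obtain ⟨x₁, rfl⟩ := hy
      rw [map_closedImmersion_apply i₁ (fun x => δ (i₁ x)) δ (fun _ => rfl)
        (comapCycle i₁ hinj₁ α) x₁, comapCycle_apply]
      by_cases h2 : i₁ x₁ ∈ Set.range i₂
      · obtain ⟨x₂, hx₂⟩ := h2
        rw [← hx₂, map_closedImmersion_apply i₂ (fun x => δ (i₂ x)) δ (fun _ => rfl) α₂ x₂,
          hα₂, if_pos ⟨x₁, hx₂.symm⟩, add_zero]
      · rw [map_closedImmersion_apply_of_notMem i₂ (fun x => δ (i₂ x)) δ α₂ _ h2, add_zero]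
    · have hy2 : y ∈ Set.range i₂ := by
        have hmem : y ∈ Set.range i₁ ∪ Set.range i₂ := by
          rw [hcov]
          exact Set.mem_univ _
        rcases hmem with hm | hm
        · exact absurd hm hy
        · exact hm
      obtain ⟨x₂, rfl⟩ := hy2
      rw [map_closedImmersion_apply_of_notMem i₁ (fun x => δ (i₁ x)) δ
        (comapCycle i₁ hinj₁ α) _ hy,
        map_closedImmersion_apply i₂ (fun x => δ (i₂ x)) δ (fun _ => rfl) α₂ x₂,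
        hα₂, if_neg hy, zero_add]

/-- Mayer-Vietoris: exactness in the middle, with the sign convention of the sum map -/
theorem mv_exact_neg (X : Scheme.{u}) [IsLocallyNoetherian X] (δ : X → ℤ)
    (hδ : Cyc.IsDimFun X δ)
    {X₁ X₂ Y : Scheme.{u}} (i₁ : X₁ ⟶ X) (i₂ : X₂ ⟶ X) [IsClosedImmersion i₁]
    [IsClosedImmersion i₂] (hcov : Set.range i₁ ∪ Set.range i₂ = Set.univ)
    (j₁ : Y ⟶ X₁) (j₂ : Y ⟶ X₂) [IsClosedImmersion j₁] [IsClosedImmersion j₂]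
    (hcomm : j₁ ≫ i₁ = j₂ ≫ i₂) (hY : Set.range (j₁ ≫ i₁) = Set.range i₁ ∩ Set.range i₂)
    (n : ℤ) (α₁ : AlgebraicCycle X₁ ℤ) (α₂ : AlgebraicCycle X₂ ℤ)
    (h₁ : α₁ ∈ Cyc.Zk X₁ (fun x => δ (i₁ x)) n) (h₂ : α₂ ∈ Cyc.Zk X₂ (fun x => δ (i₂ x)) n)
    (h : Cyc.RatEquivZero δ n (AlgebraicCycle.map i₁ (fun x => δ (i₁ x)) δ α₁ +
      AlgebraicCycle.map i₂ (fun x => δ (i₂ x)) δ α₂)) :
    ∃ γ : AlgebraicCycle Y ℤ, γ ∈ Cyc.Zk Y (fun y => δ (i₁ (j₁ y))) n ∧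
      Cyc.RatEquiv (fun x => δ (i₁ x)) n α₁
        (AlgebraicCycle.map j₁ (fun y => δ (i₁ (j₁ y))) (fun x => δ (i₁ x)) γ) ∧
      Cyc.RatEquiv (fun x => δ (i₂ x)) n α₂
        (-AlgebraicCycle.map j₂ (fun y => δ (i₁ (j₁ y))) (fun x => δ (i₂ x)) γ) := by
  have hneg : AlgebraicCycle.map i₂ (fun x => δ (i₂ x)) δ (-α₂) =
      -AlgebraicCycle.map i₂ (fun x => δ (i₂ x)) δ α₂ := by
    ext y
    rw [Function.locallyFinsuppWithin.coe_neg, Pi.neg_apply]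
    by_cases hy : y ∈ Set.range i₂
    · obtain ⟨x₂, rfl⟩ := hy
      rw [map_closedImmersion_apply i₂ (fun x => δ (i₂ x)) δ (fun _ => rfl) (-α₂) x₂,
        map_closedImmersion_apply i₂ (fun x => δ (i₂ x)) δ (fun _ => rfl) α₂ x₂,
        Function.locallyFinsuppWithin.coe_neg, Pi.neg_apply]
    · rw [map_closedImmersion_apply_of_notMem i₂ (fun x => δ (i₂ x)) δ (-α₂) y hy,
        map_closedImmersion_apply_of_notMem i₂ (fun x => δ (i₂ x)) δ α₂ y hy, neg_zero]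
  have h' : Cyc.RatEquivZero δ n (AlgebraicCycle.map i₁ (fun x => δ (i₁ x)) δ α₁ -
      AlgebraicCycle.map i₂ (fun x => δ (i₂ x)) δ (-α₂)) := by
    rw [hneg, sub_neg_eq_add]
    exact h
  have h₂' : -α₂ ∈ Cyc.Zk X₂ (fun x => δ (i₂ x)) n := by
    intro x hx
    rw [Function.locallyFinsuppWithin.coe_neg, Pi.neg_apply, h₂ x hx, neg_zero]
  obtain ⟨β, hβ, hb1, hb2⟩ := mv_main X δ hδ i₁ i₂ hcov j₁ j₂ hcomm hY n α₁ (-α₂) h₁ h₂' h'
  refine ⟨β, hβ, hb1, ?_⟩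
  unfold Cyc.RatEquiv
  have h3 := ratEquivZero_neg _ _ _ hb2
  have he : -(-α₂ - AlgebraicCycle.map j₂ (fun y => δ (i₁ (j₁ y))) (fun x => δ (i₂ x)) β) =
      α₂ - (-AlgebraicCycle.map j₂ (fun y => δ (i₁ (j₁ y))) (fun x => δ (i₂ x)) β) := by
    abel
  rw [he] at h3
  exact h3

theorem S19017_main (k : Type u) [Field k]
    (X : Scheme.{u}) [X.Over (Spec (CommRingCat.of k))]
    [IsSeparated (X ↘ Spec (CommRingCat.of k))]
    [LocallyOfFiniteType (X ↘ Spec (CommRingCat.of k))]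
    [QuasiCompact (X ↘ Spec (CommRingCat.of k))]
    (δ : X → ℤ) (hδ : Cyc.DeltaCompat (X ↘ Spec (CommRingCat.of k)) δ (fun _ => 0))
    {X₁ X₂ Y : Scheme.{u}} (i₁ : X₁ ⟶ X) (i₂ : X₂ ⟶ X) [IsClosedImmersion i₁]
    [IsClosedImmersion i₂]
    (hcov : Set.range i₁ ∪ Set.range i₂ = Set.univ)
    (j₁ : Y ⟶ X₁) (j₂ : Y ⟶ X₂) [IsClosedImmersion j₁] [IsClosedImmersion j₂]
    (hcomm : j₁ ≫ i₁ = j₂ ≫ i₂) (hY : Set.range (j₁ ≫ i₁) = Set.range i₁ ∩ Set.range i₂)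
    (n : ℤ) :
    (∀ α : AlgebraicCycle X ℤ, α ∈ Cyc.Zk X δ n →
      ∃ (α₁ : AlgebraicCycle X₁ ℤ) (α₂ : AlgebraicCycle X₂ ℤ),
        α₁ ∈ Cyc.Zk X₁ (fun x => δ (i₁ x)) n ∧ α₂ ∈ Cyc.Zk X₂ (fun x => δ (i₂ x)) n ∧
        α = AlgebraicCycle.map i₁ (fun x => δ (i₁ x)) δ α₁ +
          AlgebraicCycle.map i₂ (fun x => δ (i₂ x)) δ α₂) ∧
    (∀ (α₁ : AlgebraicCycle X₁ ℤ) (α₂ : AlgebraicCycle X₂ ℤ),
      α₁ ∈ Cyc.Zk X₁ (fun x => δ (i₁ x)) n → α₂ ∈ Cyc.Zk X₂ (fun x => δ (i₂ x)) n →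
      Cyc.RatEquivZero δ n
        (AlgebraicCycle.map i₁ (fun x => δ (i₁ x)) δ α₁ +
          AlgebraicCycle.map i₂ (fun x => δ (i₂ x)) δ α₂) →
      ∃ γ : AlgebraicCycle Y ℤ, γ ∈ Cyc.Zk Y (fun y => δ (i₁ (j₁ y))) n ∧
        Cyc.RatEquiv (fun x => δ (i₁ x)) n α₁
          (AlgebraicCycle.map j₁ (fun y => δ (i₁ (j₁ y))) (fun x => δ (i₁ x)) γ) ∧
        Cyc.RatEquiv (fun x => δ (i₂ x)) n α₂
          (-AlgebraicCycle.map j₂ (fun y => δ (i₁ (j₁ y))) (fun x => δ (i₂ x)) γ)) := by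
  haveI : IsLocallyNoetherian X :=
    LocallyOfFiniteType.isLocallyNoetherian (X ↘ Spec (CommRingCat.of k))
  have hdim : Cyc.IsDimFun X δ :=
    Groth.Agent.Lib.Helper4.DimEq2.S9684_main (X ↘ Spec (CommRingCat.of k)) (fun _ => 0)
      (isSetup_spec_field k) δ hδ
  refine ⟨fun α hα => mv_surj δ i₁ i₂ hcov n α hα, fun α₁ α₂ h₁ h₂ h => ?_⟩
  exact mv_exact_neg X δ hdim i₁ i₂ hcov j₁ j₂ hcomm hY n α₁ α₂ h₁ h₂ h

end Groth.Agent.Helper7.DivFin
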