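import Mathlib
import Groth.Prelude.Def_Cyc
import Groth.Agent.Lib.Helper7.DivFin.Main

set_option linter.style.haveILetI false
set_option linter.unusedVariables false
set_option linter.unusedSectionVars false
set_option autoImplicit false
set_option backward.isDefEq.respectTransparency.types false
set_option synthInstance.maxHeartbeats 400000
set_option maxHeartbeats 1600000

namespace Groth.Agent.Helper7.DivFin

open CategoryTheory CategoryTheory.Limits AlgebraicGeometry IsLocalRing TopologicalSpace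

universe u

/-! helper7: helper7: rational equivalence on an open subscheme extends up to a cycle on the complement (S1863) -/

theorem isCompact_of_subset_noetherian {T : Type*} [TopologicalSpace T] (W : Opens T)
    [NoetherianSpace W] (s : Set T) (hs : s ⊆ (W : Set T)) : IsCompact s := by
  have h1 : IsCompact ((Subtype.val : W → T) ⁻¹' s) := NoetherianSpace.isCompact _
  have h2 := h1.image continuous_subtype_val
  have h3 : (Subtype.val : W → T) '' ((Subtype.val : W → T) ⁻¹' s) = s := by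
    ext y
    constructor
    · rintro ⟨w, hw, rfl⟩
      exact hw
    · intro hy
      exact ⟨⟨y, hs hy⟩, hy, rfl⟩
  rwa [h3] at h2

/-- pushing a locally finite family on an open subscheme forward to `X` keeps it locally finite -/
theorem locallyFinite_push (X : Scheme.{u}) [IsLocallyNoetherian X] (U : X.Opens) (ι : Type u)
    (ξ : ι → (↑U : Scheme.{u}))
    (hlf : ∀ x : (↑U : Scheme.{u}), ∃ O : Set (↑U : Scheme.{u}), IsOpen O ∧ x ∈ O ∧
      {i | (closure {ξ i} ∩ O).Nonempty}.Finite) :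
    ∀ x : X, ∃ W : Set X, IsOpen W ∧ x ∈ W ∧
      {i | (closure {U.ι (ξ i)} ∩ W).Nonempty}.Finite := by
  intro x
  obtain ⟨_, ⟨W, hW, rfl⟩, hxW, -⟩ :=
    X.isBasis_affineOpens.exists_subset_of_mem_open (Set.mem_univ x) isOpen_univ
  refine ⟨W, W.isOpen, hxW, ?_⟩
  haveI : IsNoetherianRing Γ(X, W) := IsLocallyNoetherian.component_noetherian ⟨W, hW⟩
  have hNW := noetherianSpace_of_isAffineOpen W hW
  have hK : IsCompact (U.ι ⁻¹' (W : Set X)) := by
    rw [U.ι.isOpenEmbedding.isInducing.isCompact_iff, Set.image_preimage_eq_inter_range]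
    exact @isCompact_of_subset_noetherian X _ W hNW _ Set.inter_subset_left
  choose O hO using hlf
  obtain ⟨t, -, ht⟩ := hK.elim_nhds_subcover O (fun u _ => (hO u).1.mem_nhds (hO u).2.1)
  refine (t.finite_toSet.biUnion (fun u _ => (hO u).2.2)).subset ?_
  rintro i ⟨y, hy1, hy2⟩
  have hξW : U.ι (ξ i) ∈ W := (specializes_iff_mem_closure.mpr hy1).mem_open W.isOpen hy2
  have hmem : ξ i ∈ U.ι ⁻¹' (W : Set X) := hξW
  obtain ⟨u, hu, hmem'⟩ := Set.mem_iUnion₂.mp (ht hmem)
  exact Set.mem_iUnion₂.mpr ⟨u, hu, ⟨ξ i, subset_closure rfl, hmem'⟩⟩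

theorem S1863_main (X : Scheme.{u}) (δ : X → ℤ) (hX : Cyc.IsSetup X δ) (U : X.Opens) (k : ℤ)
    (α β : AlgebraicCycle X ℤ) (hα : α ∈ Cyc.Zk X δ k) (hβ : β ∈ Cyc.Zk X δ k)
    (αU βU : AlgebraicCycle (↑U : Scheme.{u}) ℤ) (hαU : ∀ u : ↥U, αU u = α (U.ι u))
    (hβU : ∀ u : ↥U, βU u = β (U.ι u))
    (h : Cyc.RatEquiv (fun u : ↥U => δ (U.ι u)) k αU βU) :
    ∃ γ : AlgebraicCycle X ℤ, γ ∈ Cyc.Zk X δ k ∧ (∀ x : X, x ∈ U → γ x = 0) ∧
      Cyc.RatEquiv δ k α (β + γ) := by
  haveI := hX.1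
  obtain ⟨ι, ξ, f, hδξ, hf, hlf, hsum⟩ := h
  have hb : ∀ i, Function.Bijective (U.ι.residueFieldMap (ξ i)).hom := fun i =>
    ConcreteCategory.bijective_of_isIso (U.ι.residueFieldMap (ξ i))
  have hs : ∀ u : (↑U : Scheme.{u}), Function.Surjective (U.ι.stalkMap u).hom := fun u =>
    (ConcreteCategory.bijective_of_isIso (U.ι.stalkMap u)).2
  let eK : ∀ i, X.residueField (U.ι (ξ i)) ≃+* (↑U : Scheme.{u}).residueField (ξ i) :=
    fun i => RingEquiv.ofBijective _ (hb i)
  let f' : (i : ι) → X.residueField (U.ι (ξ i)) := fun i => (eK i).symm (f i)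
  have hff' : ∀ i, (U.ι.residueFieldMap (ξ i)).hom (f' i) = f i :=
    fun i => (eK i).apply_symm_apply (f i)
  have hf' : ∀ i, f' i ≠ 0 := by
    intro i h0
    apply hf i
    rw [← hff' i, h0, map_zero]
  have hδ' : ∀ i, δ (U.ι (ξ i)) = k + 1 := hδξ
  have hlf' := locallyFinite_push X U ι ξ hlf
  obtain ⟨D, hD⟩ := exists_cycle_of_family δ hX ι (fun i => U.ι (ξ i)) f' hf' hlf'
  have hDk : D ∈ Cyc.Zk X δ k := mem_Zk_of_family δ k ι (fun i => U.ι (ξ i)) f' hδ' D hD
  have hDU : ∀ u : ↥U, D (U.ι u) = αU u - βU u := by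
    intro u
    rw [hD]
    have h1 := hsum u
    rw [Function.locallyFinsuppWithin.coe_sub, Pi.sub_apply] at h1
    rw [h1]
    apply finsum_congr
    intro i
    have h2 := divFun_transport U.ι U.ι.isOpenEmbedding.isInducing δ u (ξ i) (hs u) (hb i) (f' i)
    rw [hff' i] at h2
    exact h2.symm
  have hval : ∀ x, (α - β - D) x = α x - β x - D x := by
    intro x
    simp only [Function.locallyFinsuppWithin.coe_sub, Pi.sub_apply]
  refine ⟨α - β - D, ?_, ?_, ?_⟩
  · intro x hx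
    rw [hval, hα x hx, hβ x hx, hDk x hx]
    ring
  · intro x hx
    have e1 : D x = αU ⟨x, hx⟩ - βU ⟨x, hx⟩ := hDU ⟨x, hx⟩
    have e2 : αU ⟨x, hx⟩ = α x := hαU ⟨x, hx⟩
    have e3 : βU ⟨x, hx⟩ = β x := hβU ⟨x, hx⟩
    rw [hval, e1, e2, e3]
    ring
  · unfold Cyc.RatEquiv
    have he : α - (β + (α - β - D)) = D := by abel
    rw [he]
    exact ⟨ι, fun i => U.ι (ξ i), f', hδ', hf', hlf', hD⟩

end Groth.Agent.Helper7.DivFin
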