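import Mathlib
import Groth.Prelude.Def_C1
import Groth.Agent.Lib.Lead.SecOrd1
import Groth.Agent.Lib.Helper7.CycPull.DivPull

set_option linter.style.haveILetI false
set_option linter.unusedVariables false
set_option linter.unusedSectionVars false
set_option autoImplicit false
set_option backward.isDefEq.respectTransparency.types false
set_option synthInstance.maxHeartbeats 400000
set_option maxHeartbeats 1600000

namespace Groth.Agent.Helper7.DivFin

open CategoryTheory CategoryTheory.Limits AlgebraicGeometry IsLocalRing TopologicalSpace Opposite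
open Groth.Agent.Helper1.QcCech Groth.Agent.Helper1.LGen Groth.Agent.Lead.RkSch
open Groth.Agent.Lead.SecOrd Groth.Agent.Helper7.CycPull

universe u

/-! helper7: helper7: the divisor of a global section of an invertible module is its zero cycle (S1923) -/

theorem S1923_main (X : Scheme.{u}) [IsIntegral X] (δ : X → ℤ) (hX : Cyc.IsSetup X δ) (n : ℤ)
    (hn : δ (genericPoint X) = n) (L : X.Modules) (hL : PicF.IsInvertible L)
    (s : L.presheaf.obj (Opposite.op ⊤))
    (hs : (L.presheaf.germ ⊤ (genericPoint X) trivial) s ≠ 0) :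
    Cyc.secDivFun δ L (genericPoint X)
      (Submodule.Quotient.mk ((L.presheaf.germ ⊤ (genericPoint X) trivial) s)) =
      Cyc.zeroSectionFun δ (n - 1) L s := by
  haveI := hX.1
  funext x
  have h : genericPoint X ⤳ x := genericPoint_specializes x
  unfold Cyc.secDivFun Cyc.zeroSectionFun
  by_cases hd : δ x = n - 1
  swap
  · rw [dif_neg, if_neg hd]
    rintro ⟨-, h2⟩
    apply hd
    omega
  have hc : genericPoint X ⤳ x ∧ δ x + 1 = δ (genericPoint X) := ⟨h, by omega⟩
  rw [dif_pos hc, if_pos hd]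
  haveI : Ring.KrullDimLE 1 (X.presheaf.stalk x) :=
    krullDimLE_one_of_delta δ hX.2.2 x (by omega)
  obtain ⟨W, a, hxW, ha⟩ := exists_isGen hL x
  have hηW : genericPoint X ∈ W := h.mem_open W.2 hxW
  obtain ⟨hx0, hx1⟩ := (freeAt_iff a x hxW).1 (freeAt_of_isGen ha x hxW)
  obtain ⟨hη0, hη1⟩ := (freeAt_iff a _ hηW).1 (freeAt_of_isGen ha _ hηW)
  obtain ⟨r, hr⟩ := hx1 (L.presheaf.germ ⊤ x trivial s)
  set g : X.functionField := (X.presheaf.stalkSpecializes h).hom r with hg
  have hgs : L.presheaf.germ ⊤ (genericPoint X) trivial s =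
      g • L.presheaf.germ W (genericPoint X) hηW a := by
    have h1 : spM L h (L.presheaf.germ ⊤ x trivial s) =
        L.presheaf.germ ⊤ (genericPoint X) trivial s := spM_germ L h (U := ⊤) (show x ∈ (⊤ : X.Opens) from trivial) s
    rw [← h1, ← hr, spM_smul, spM_germ]
  have hg0 : g ≠ 0 := by
    intro h0
    apply hs
    rw [hgs, h0, zero_smul]
  have hr0 : r ≠ 0 := by
    intro h0
    apply hg0
    rw [hg, h0, map_zero]
  have hL1 : Cyc.secOrdAt L (genericPoint X) x hc.1
      (Submodule.Quotient.mk (L.presheaf.germ ⊤ (genericPoint X) trivial s)) =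
      CycAlg.ordFrac (X.presheaf.stalk x) X.functionField g := by
    rw [hgs]
    exact secOrdAt_eq ha x hxW h g
  rw [hL1]
  have hL2 : CycAlg.ordFrac (X.presheaf.stalk x) X.functionField g =
      ((Ring.ord (X.presheaf.stalk x) r).toNat : ℤ) := by
    rw [ordFrac_eq]
    exact toZ_ordFrac_algebraMap r hr0
  rw [hL2]
  have ht : ∃ t : L.presheaf.stalk x, Submodule.span (X.presheaf.stalk x) {t} = ⊤ := by
    refine ⟨L.presheaf.germ W x hxW a, ?_⟩
    rw [eq_top_iff]
    intro v _
    obtain ⟨ρ, hρ⟩ := hx1 v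
    rw [← hρ]
    exact Submodule.smul_mem _ _ (Submodule.subset_span rfl)
  rw [dif_pos ht]
  obtain ⟨u, hu⟩ := hx1 (Classical.choose ht)
  have hmem : L.presheaf.germ W x hxW a ∈
      Submodule.span (X.presheaf.stalk x) {Classical.choose ht} := by
    rw [Classical.choose_spec ht]
    trivial
  obtain ⟨v, hv⟩ := Submodule.mem_span_singleton.1 hmem
  have hvu : v * u = 1 := by
    have h1 : (v * u - 1) • L.presheaf.germ W x hxW a = 0 := by
      rw [sub_smul, one_smul, mul_smul, hu, hv, sub_self]
    exact sub_eq_zero.1 (hx0 _ h1)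
  have huu : IsUnit u := IsUnit.of_mul_eq_one v (by rw [mul_comm]; exact hvu)
  have hf : ∃ f : X.presheaf.stalk x,
      (L.presheaf.germ ⊤ x trivial) s = f • Classical.choose ht := by
    refine ⟨r * v, ?_⟩
    rw [mul_smul, hv, hr]
  rw [dif_pos hf]
  obtain ⟨f₀, hf₀, hf₀def⟩ : ∃ f₀ : X.presheaf.stalk x,
      ((L.presheaf.germ ⊤ x trivial) s = f₀ • Classical.choose ht) ∧
        f₀ = Classical.choose hf := ⟨_, Classical.choose_spec hf, rfl⟩
  rw [← hf₀def]
  have hkey : r = f₀ * u := by
    have h1 : (r - f₀ * u) • L.presheaf.germ W x hxW a = 0 := by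
      rw [sub_smul, mul_smul, hu, hr, ← hf₀, sub_self]
    exact sub_eq_zero.1 (hx0 _ h1)
  unfold Ring.ord
  rw [hkey, Ideal.span_singleton_mul_right_unit huu]

end Groth.Agent.Helper7.DivFin
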